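import Mathlib
import Cfsg.Prelude.Def_OddOrderLocal
import Cfsg.Agent.S1393
import Cfsg.Agent.S1395
import Cfsg.Agent.S1396
import Cfsg.Agent.S1401
import Cfsg.Agent.S0541
import Cfsg.Agent.Lib.Helper61.BG9d
import Cfsg.Agent.Lib.Helper72.BG8
import Cfsg.Agent.Lib.Helper15.BG.Signalizer
import Cfsg.Agent.Lib.Helper1.FittingPrimary
import Cfsg.Agent.Lib.Helper23.Transitivity3
import Cfsg.Agent.Lib.Helper23.ThompsonTrans
import Cfsg.Agent.Lib.Helper35.BG.Basic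

/-!
# Bender–Glauberman Lemma 9.5: the facts about a maximal subgroup of type (B)

`A` is a self-centralizing normal subgroup of rank at least three of a Sylow `p`-subgroup `P` of
the minimal simple group `G` of odd order, `K = O_{p'}(C_G(A))`.

* `scn_TH`, `scn_trans`: `A` satisfies the transitivity hypothesis, and `K` is transitive on the
  maximal `A`-invariant `q`-subgroups for every prime `q ≠ p`.
* `typeB_facts`: if `M₁` is a maximal subgroup containing `A` and `K` whose Fitting subgroup has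
  `s`-rank at least three (`s ≠ p`), then `V = O_s(M₁)` lies in the unique maximal subgroup `M₁`,
  every maximal `A`-invariant `s`-subgroup contains `V` and lies in `M₁`, the normalizer of every
  `p`-subgroup containing `A` lies in `M₁`, and every other maximal subgroup containing `A` has
  `s`-rank at most two.
-/

set_option autoImplicit false

namespace Cfsg.Agent.Lib.Helper71.BG

open Cfsg Cfsg.Agent.Lib.Helper23 Cfsg.Agent.Lib.Helper61

universe u

variable {G : Type u} [Group G] [Finite G]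

omit [Finite G] in
theorem scn_isPGroup {p : ℕ} [Fact p.Prime] (P : Sylow p G) {A : Subgroup G}
    (hA : IsSCN (P : Subgroup G) A) : IsPGroup p A := P.isPGroup'.to_le hA.1

omit [Finite G] in
theorem scn_isMulCommutative {P A : Subgroup G} (hA : IsSCN P A) : IsMulCommutative A :=
  ⟨⟨fun a b => Subtype.ext (bg_isSCN_comm hA a a.2 b b.2)⟩⟩

omit [Finite G] in
theorem scn_le_centralizer {P A : Subgroup G} (hA : IsSCN P A) :
    A ≤ Subgroup.centralizer (A : Set G) := by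
  intro a ha
  rw [Subgroup.mem_centralizer_iff]
  intro b hb
  exact bg_isSCN_comm hA b hb a ha

/-- The order of `A` is a positive power of `p`. -/
theorem scn_card {p : ℕ} [Fact p.Prime] (P : Sylow p G) {A : Subgroup G}
    (hA : IsSCN (P : Subgroup G) A) (hA3 : ¬ PRankLE p 2 ↥A) :
    ∃ n : ℕ, n ≠ 0 ∧ Nat.card A = p ^ n := by
  have hp : p.Prime := Fact.out
  obtain ⟨n, hn⟩ := IsPGroup.iff_card.mp (scn_isPGroup P hA)
  refine ⟨n, ?_, hn⟩
  rintro rfl
  rw [pow_zero] at hn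
  apply hA3
  intro D _ _
  have h1 : Nat.card D ≤ Nat.card A := Subgroup.card_le_card_group D
  have h2 : 1 ≤ p ^ 2 := Nat.one_le_pow _ _ hp.pos
  omega

theorem scn_dvd_card {p : ℕ} [Fact p.Prime] (P : Sylow p G) {A : Subgroup G}
    (hA : IsSCN (P : Subgroup G) A) (hA3 : ¬ PRankLE p 2 ↥A) : p ∣ Nat.card A := by
  obtain ⟨n, hn0, hn⟩ := scn_card P hA hA3
  rw [hn]
  exact dvd_pow_self p hn0

theorem scn_not_dvd {p : ℕ} [Fact p.Prime] (P : Sylow p G) {A : Subgroup G}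
    (hA : IsSCN (P : Subgroup G) A) {q : ℕ} (hq : q.Prime) (hqp : q ≠ p) :
    ¬ q ∣ Nat.card A := by
  have hp : p.Prime := Fact.out
  obtain ⟨n, hn⟩ := IsPGroup.iff_card.mp (scn_isPGroup P hA)
  rw [hn]
  intro h
  exact hqp ((Nat.prime_dvd_prime_iff_eq hq hp).mp (hq.dvd_of_dvd_pow h))

theorem scn_TH (hG : IsMinSimpleOddOrder G) {p : ℕ} [Fact p.Prime] (P : Sylow p G)
    {A : Subgroup G} (hA : IsSCN (P : Subgroup G) A) (hA3 : ¬ PRankLE p 2 ↥A) :
    TransitivityHypothesis A := by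
  have hp : p.Prime := Fact.out
  have hpG : p ∣ Nat.card G :=
    (scn_dvd_card P hA hA3).trans (Subgroup.card_subgroup_dvd_card A)
  refine Cfsg.Agent.S1396.result hG p hpG A (scn_isPGroup P hA) (scn_isMulCommutative hA)
    (Or.inr ⟨P, hA, ?_⟩)
  intro h1
  apply hA3
  intro D hDc hDe
  have h2 := h1 D hDc hDe
  have h3 : p ^ 1 ≤ p ^ 2 := Nat.pow_le_pow_right hp.pos (by norm_num)
  omega

omit [Finite G] in
theorem scn_rank {p : ℕ} [Fact p.Prime] {P A : Subgroup G}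
    (hA : IsSCN P A) (hA3 : ¬ PRankLE p 2 ↥A) :
    ¬ RankLE 2 ↥(A ⊓ Subgroup.centralizer (A : Set G)) := by
  have hp : p.Prime := Fact.out
  intro h
  obtain ⟨D, hDe, hDA, hDc⟩ := bg_exists_EA_of_not_pRankLE hA3
  exact bg_not_pRankLE_of_EA hDe (le_inf hDA (hDA.trans (scn_le_centralizer hA))) hDc (h p hp)

/-- Thompson transitivity for `A`: the group `K = O_{p'}(C_G(A))` is transitive on the maximal
`A`-invariant `q`-subgroups, `q ≠ p`. -/
theorem scn_trans (hG : IsMinSimpleOddOrder G) {p : ℕ} [Fact p.Prime] (P : Sylow p G)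
    {A : Subgroup G} (hA : IsSCN (P : Subgroup G) A) (hA3 : ¬ PRankLE p 2 ↥A) {q : ℕ}
    (hq : q.Prime) (hqp : q ≠ p) :
    ∀ Q₁ ∈ maxInvSubgroups ⊤ A {q}, ∀ Q₂ ∈ maxInvSubgroups ⊤ A {q},
      ∃ k ∈ piCoreOf (primesNotDvd (Nat.card A)) (Subgroup.centralizer (A : Set G)),
        Q₂ = Q₁.map (MulAut.conj k).toMonoidHom :=
  Cfsg.Agent.S1393.result hG A (scn_TH hG P hA hA3) (scn_rank hA hA3) q hq
    (scn_not_dvd P hA hq hqp)

omit [Finite G] in
theorem mapConj_le_of_mem {S M : Subgroup G} (hSM : S ≤ M) {k : G} (hk : k ∈ M) :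
    S.map (MulAut.conj k).toMonoidHom ≤ M := by
  intro x hx
  rw [mem_mapConj] at hx
  have h1 := M.mul_mem (M.mul_mem hk (hSM hx)) (M.inv_mem hk)
  have e : k * (k⁻¹ * x * k) * k⁻¹ = x := by group
  rwa [e] at h1

omit [Finite G] in
theorem piCoreOf_le (π : Set ℕ) (X : Subgroup G) : piCoreOf π X ≤ X :=
  Subgroup.map_subtype_le _

/-- A `q`-group has all its prime divisors in `{q}`. -/
theorem primes_of_isPGroup {q : ℕ} [Fact q.Prime] {V : Subgroup G} (hV : IsPGroup q V) :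
    ∀ r : ℕ, r.Prime → r ∣ Nat.card V → r ∈ ({q} : Set ℕ) := by
  have hq : q.Prime := Fact.out
  intro r hr hdvd
  obtain ⟨n, hn⟩ := IsPGroup.iff_card.mp hV
  rw [hn] at hdvd
  exact (Nat.prime_dvd_prime_iff_eq hr hq).mp (hr.dvd_of_dvd_pow hdvd)

/-- The normalizer of a `p`-subgroup `T ≥ A` is generated by `K ∩ C(T)` and `N(T) ∩ N(Q)` for a
maximal `A`-invariant `q`-subgroup `Q` (from S1395). -/
theorem normalizer_le_of_pGroup (hG : IsMinSimpleOddOrder G) {p : ℕ} [Fact p.Prime]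
    (P : Sylow p G) {A : Subgroup G} (hA : IsSCN (P : Subgroup G) A) (hA3 : ¬ PRankLE p 2 ↥A)
    {q : ℕ} (hq : q.Prime) (hqp : q ≠ p) {T : Subgroup G} (hTp : IsPGroup p T) (hAT : A ≤ T)
    (X : Subgroup G)
    (hKX : piCoreOf (primesNotDvd (Nat.card A)) (Subgroup.centralizer (A : Set G)) ≤ X)
    (hNX : ∀ Q ∈ maxInvSubgroups ⊤ A {q}, Subgroup.normalizer (Q : Set G) ≤ X) :
    Subgroup.normalizer (T : Set G) ≤ X := by
  have hp : p.Prime := Fact.out
  have hT : T ≠ ⊤ := Cfsg.Agent.Lib.Helper72.BG8.isPGroup_ne_top hG hTp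
  have hPπ : ∀ r : ℕ, r.Prime → r ∣ Nat.card T → r ∣ Nat.card A := by
    intro r hr hdvd
    obtain ⟨n, hn⟩ := IsPGroup.iff_card.mp hTp
    rw [hn] at hdvd
    have : r = p := (Nat.prime_dvd_prime_iff_eq hr hp).mp (hr.dvd_of_dvd_pow hdvd)
    rw [this]
    exact scn_dvd_card P hA hA3
  have hsn : (A.subgroupOf T).IsSubnormal := by
    have : Group.IsNilpotent T := hTp.isNilpotent
    exact Cfsg.Agent.S0541.isSubnormal_of_isNilpotent _
  obtain ⟨ha, -, hsub, hd⟩ :=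
    Cfsg.Agent.S1395.result hG A (scn_TH hG P hA hA3) q hq (scn_not_dvd P hA hq hqp) T hT hPπ
      hAT hsn (scn_trans hG P hA hA3 hq hqp)
  obtain ⟨Q, hQ⟩ := Cfsg.Agent.Lib.Helper15.BG.exists_maxInv T q
  rw [(hd Q hQ).2]
  apply sup_le
  · rw [← ha]
    exact inf_le_left.trans hKX
  · exact inf_le_right.trans (hNX Q (hsub hQ))

/-- **Type (B) facts.** -/
theorem typeB_facts (hG : IsMinSimpleOddOrder G) (p : ℕ) [Fact p.Prime] (P : Sylow p G)
    (A : Subgroup G) (hA : IsSCN (P : Subgroup G) A) (hA3 : ¬ PRankLE p 2 ↥A)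
    (M₁ : Subgroup G) (hM₁ : IsCoatom M₁) (hAM : A ≤ M₁)
    (hKM : piCoreOf (primesNotDvd (Nat.card A)) (Subgroup.centralizer (A : Set G)) ≤ M₁)
    (s : ℕ) [Fact s.Prime] (hsp : s ≠ p) (hs : ¬ PRankLE s 2 ↥(fittingOf M₁)) :
    ∃ V : Subgroup G, V ≤ M₁ ∧ IsPGroup s V ∧ M₁ ≤ Subgroup.normalizer (V : Set G) ∧
      InUniqueMaximal V ∧
      (∀ S ∈ maxInvSubgroups ⊤ A {s}, V ≤ S ∧ S ≤ M₁) ∧
      Subgroup.normalizer (A : Set G) ≤ M₁ ∧
      (∀ T : Subgroup G, IsPGroup p T → A ≤ T → Subgroup.normalizer (T : Set G) ≤ M₁) ∧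
      (∀ M : Subgroup G, IsCoatom M → A ≤ M → M ≠ M₁ → PRankLE s 2 ↥M) := by
  have hp : p.Prime := Fact.out
  have hsP : s.Prime := Fact.out
  have hss : s < s ^ 2 := by
    have := hsP.one_lt
    nlinarith
  -- the subgroup `V = O_s(M₁)`
  obtain ⟨V, hVdef⟩ : ∃ V : Subgroup G, V = (Cfsg.pCore s ↥M₁).map M₁.subtype := ⟨_, rfl⟩
  have hVM : V ≤ M₁ := hVdef ▸ Subgroup.map_subtype_le _
  have hVp : IsPGroup s V := hVdef ▸ (Cfsg.Agent.Lib.Helper22.pCore_isPGroup' s ↥M₁).map _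
  have hMV : M₁ ≤ Subgroup.normalizer (V : Set G) :=
    hVdef ▸ le_normalizer_map_subtype_of_normal _ (Cfsg.Agent.Lib.Helper22.pCore_normal' s ↥M₁)
  -- a large elementary abelian subgroup of `V`
  obtain ⟨D, hDe, hDF, hDc⟩ := bg_exists_EA_of_not_pRankLE hs
  have hDV : D ≤ V := by
    intro d hd
    obtain ⟨x, hx, rfl⟩ := hDF hd
    rw [hVdef]
    refine ⟨x, ?_, rfl⟩
    apply Cfsg.Agent.Lib.Helper1.mem_pCore_of_mem_fitting x hx 1
    apply Subtype.ext
    rw [pow_one, Subgroup.coe_pow, Subgroup.coe_one]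
    exact hDe.2 _ hd
  have hUs : ∀ F : Subgroup G, IsElementaryAbelian s F → s ^ 2 < Nat.card F →
      InUniqueMaximal F := fun F hFe hFc =>
    Cfsg.Agent.S1401.result hG M₁ hM₁ s hs F (bg_isPGroup_of_isEA hFe) hFe.1
      (bg_not_pRankLE_of_EA hFe le_rfl hFc)
  have hVU : InUniqueMaximal V := bg_unique_of_le (hUs D hDe hDc) hDV hM₁ hVM
  have hV1 : V ≠ ⊥ := by
    rintro rfl
    have h1 : D = ⊥ := le_bot_iff.mp hDV
    rw [h1, Subgroup.card_bot] at hDc
    have : 0 < s ^ 2 := Nat.pos_of_ne_zero (pow_ne_zero 2 hsP.ne_zero)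
    omega
  have hle : ∀ X : Subgroup G, X ≠ ⊤ → V ≤ X → X ≤ M₁ := by
    intro X hX hVX
    obtain ⟨M', hM', hXM'⟩ := bg_exists_isCoatom_ge hX
    have := bg_unique_eq hVU hM' (hVX.trans hXM') hM₁ hVM
    rw [← this]
    exact hXM'
  have htr := scn_trans hG P hA hA3 hsP hsp
  have hVinv : V ∈ invSubgroups ⊤ A {s} := ⟨le_top, primes_of_isPGroup hVp, hAM.trans hMV⟩
  obtain ⟨S₀, hS₀, hVS₀⟩ := exists_maxInv_ge hVinv
  have hS₀M : S₀ ≤ M₁ :=
    hle S₀ (Cfsg.Agent.Lib.Helper72.BG8.isPGroup_ne_top hG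
      (Cfsg.Agent.Lib.Helper15.BG.isPGroup_of_mem_invSubgroups hS₀.1)) hVS₀
  have hall : ∀ S ∈ maxInvSubgroups ⊤ A {s}, V ≤ S ∧ S ≤ M₁ := by
    intro S hS
    obtain ⟨k, hk, rfl⟩ := htr S₀ hS₀ S hS
    have hkM : k ∈ M₁ := hKM hk
    refine ⟨?_, mapConj_le_of_mem hS₀M hkM⟩
    have h1 := Subgroup.map_mono (f := (MulAut.conj k).toMonoidHom) hVS₀
    rwa [mapConj_eq_of_mem_normalizer (hMV hkM)] at h1
  have hNS : ∀ S ∈ maxInvSubgroups ⊤ A {s}, Subgroup.normalizer (S : Set G) ≤ M₁ := by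
    intro S hS
    have hSp : IsPGroup s S := Cfsg.Agent.Lib.Helper15.BG.isPGroup_of_mem_invSubgroups hS.1
    have hS1 : S ≠ ⊥ := by
      rintro rfl
      exact hV1 (le_bot_iff.mp (hall _ hS).1)
    exact hle _ (Cfsg.Agent.Lib.Helper72.BG8.normalizer_ne_top_of_isPGroup hG hSp hS1)
      ((hall S hS).1.trans Subgroup.le_normalizer)
  have hNT : ∀ T : Subgroup G, IsPGroup p T → A ≤ T → Subgroup.normalizer (T : Set G) ≤ M₁ :=
    fun T hTp hAT => normalizer_le_of_pGroup hG P hA hA3 hsP hsp hTp hAT M₁ hKM hNS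
  refine ⟨V, hVM, hVp, hMV, hVU, hall, hNT A (scn_isPGroup P hA) le_rfl, hNT, ?_⟩
  -- other maximal subgroups have `s`-rank at most two
  intro M hM hAM' hne
  by_contra hrk
  obtain ⟨F, hFe, hFM, hFc⟩ := bg_exists_EA_of_not_pRankLE hrk
  have hFU := hUs F hFe hFc
  obtain ⟨SG, hVSG⟩ := hVp.exists_le_sylow
  have hSGM : (SG : Subgroup G) ≤ M₁ :=
    hle _ (Cfsg.Agent.Lib.Helper72.BG8.isPGroup_ne_top hG SG.isPGroup') hVSG
  obtain ⟨S', hFS'⟩ := (bg_isPGroup_of_isEA hFe).exists_le_sylow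
  obtain ⟨g, hg⟩ := MulAction.exists_smul_eq G SG S'
  have hS'eq : (S' : Subgroup G) = (SG : Subgroup G).map (MulAut.conj g).toMonoidHom := by
    rw [← hg, Sylow.coe_subgroup_smul, conj_smul_eq_mapConj]
  have hFM' : F ≤ M₁.map (MulAut.conj g).toMonoidHom := by
    refine hFS'.trans ?_
    rw [hS'eq]
    exact Subgroup.map_mono hSGM
  have hMeq : M = M₁.map (MulAut.conj g).toMonoidHom :=
    bg_unique_eq hFU hM hFM (bg_isCoatom_mapConj hM₁ g) hFM'
  have hV'M : V.map (MulAut.conj g).toMonoidHom ≤ M := by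
    rw [hMeq]
    exact Subgroup.map_mono hVM
  have hV'U : InUniqueMaximal (V.map (MulAut.conj g).toMonoidHom) := bg_unique_mapConj hVU g
  have hMV' : M ≤ Subgroup.normalizer ((V.map (MulAut.conj g).toMonoidHom : Subgroup G) : Set G) := by
    rw [Cfsg.Agent.Lib.Helper35.BG.normalizer_map_conj, hMeq]
    exact Subgroup.map_mono hMV
  have hV'inv : V.map (MulAut.conj g).toMonoidHom ∈ invSubgroups ⊤ A {s} :=
    ⟨le_top, primes_of_isPGroup (hVp.map _), hAM'.trans hMV'⟩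
  obtain ⟨S₂, hS₂, hV'S₂⟩ := exists_maxInv_ge hV'inv
  have hV'M₁ : V.map (MulAut.conj g).toMonoidHom ≤ M₁ := hV'S₂.trans (hall S₂ hS₂).2
  exact hne (bg_unique_eq hV'U hM hV'M hM₁ hV'M₁)

end Cfsg.Agent.Lib.Helper71.BG
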