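import Mathlib
import Cfsg.Prelude.Def_OddOrderLocal
import Cfsg.Agent.Lib.Helper4.CNFit
import Cfsg.Agent.Lib.Helper23.TypeP
import Cfsg.Agent.Lib.Helper23.Compl
import Cfsg.Agent.Lib.Helper23.ThompsonTrans
import Cfsg.Agent.Lib.Helper27.BG.SigmaBasic
import Cfsg.Agent.Lib.Helper35.BG.Basic
import Cfsg.Agent.Lib.Helper35.BG.Hall
import Cfsg.Agent.Lib.Helper67.BG.Basics
import Cfsg.Agent.Lib.Helper67.BG.HallUtil

/-!
# Generic lemmas for the identification of the five types of maximal subgroups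

Plumbing about `fittingHallOf`, complements inside a subgroup, self-normalizing cyclic pairs and
groups of Frobenius type, used by the cores of S1381, S1382, S1383.
-/

set_option autoImplicit false

namespace Cfsg.Agent.Lib.Helper71.BG

open Cfsg
open scoped Pointwise

variable {G : Type*} [Group G]

/-! ### self-normalizing cyclic pairs -/

/-- A pair `K`, `K*` generating a cyclic group `Z` such that `Z ∖ (K ∪ K*)` is a TI-subset with
normalizer `Z` is a self-normalizing cyclic pair. -/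
theorem isSelfNormalizingCyclic_of {K Ks : Subgroup G} (hK1 : K ≠ ⊥) (hKs1 : Ks ≠ ⊥)
    (hKKs : K ⊓ Ks = ⊥) (hcomm : ∀ a ∈ K, ∀ b ∈ Ks, a * b = b * a)
    (hZcyc : IsCyclic ↥(K ⊔ Ks))
    (hTI : IsTISubset ((↑(K ⊔ Ks) : Set G) \ ((K : Set G) ∪ ↑Ks)))
    (hNZ : Subgroup.normalizer ((↑(K ⊔ Ks) : Set G) \ ((K : Set G) ∪ ↑Ks)) = K ⊔ Ks) :
    IsSelfNormalizingCyclic K Ks := by
  have hcommZ : ∀ a ∈ K ⊔ Ks, ∀ b ∈ K ⊔ Ks, a * b = b * a := by
    intro a ha b hb
    have := (IsCyclic.isMulCommutative (α := ↥(K ⊔ Ks))).is_comm.comm ⟨a, ha⟩ ⟨b, hb⟩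
    exact congrArg Subtype.val this
  refine ⟨hK1, hKs1, hKKs, hcomm, hZcyc, ?_⟩
  intro X hX hXne
  obtain ⟨x, hx⟩ := hXne
  ext g
  constructor
  · intro hg
    rw [← hNZ]
    by_contra hgN
    have hgx : g * x * g⁻¹ ∈ X := (Subgroup.mem_set_normalizer_iff.mp hg x).mp hx
    have hx1 : x = 1 := hTI g hgN x (hX hx) (hX hgx)
    have hxK : x ∉ (K : Set G) := fun h => (hX hx).2 (Or.inl h)
    exact hxK (by rw [hx1]; exact K.one_mem)
  · intro hg
    rw [Subgroup.mem_set_normalizer_iff]
    intro n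
    constructor
    · intro hn
      have hnZ : n ∈ K ⊔ Ks := (hX hn).1
      have : g * n * g⁻¹ = n := by
        rw [hcommZ g hg n hnZ]; group
      rw [this]; exact hn
    · intro hn
      have hyZ : g * n * g⁻¹ ∈ K ⊔ Ks := (hX hn).1
      have hnZ : n ∈ K ⊔ Ks := by
        have : n = g⁻¹ * (g * n * g⁻¹) * g := by group
        rw [this]
        exact Subgroup.mul_mem _ (Subgroup.mul_mem _ (Subgroup.inv_mem _ hg) hyZ) hg
      have : g * n * g⁻¹ = n := by
        rw [hcommZ g hg n hnZ]; group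
      rw [this] at hn; exact hn

/-! ### centralizers inside a complemented subgroup -/

/-- If `C_M(x) = K K*` with `K* ≤ D`, `K ∩ D = 1` and `K*` centralizing `K`, then `C_D(x) = K*`. -/
theorem inf_centralizer_eq_of {M K Ks D : Subgroup G} (hDM : D ≤ M) (hKD : K ⊓ D = ⊥)
    (hKsD : Ks ≤ D) (hcomm : ∀ a ∈ K, ∀ b ∈ Ks, a * b = b * a) {x : G}
    (hC : M ⊓ Subgroup.centralizer ({x} : Set G) = K ⊔ Ks) :
    D ⊓ Subgroup.centralizer ({x} : Set G) = Ks := by
  have hnorm : Ks ≤ Subgroup.normalizer (K : Set G) := by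
    intro s hs
    rw [Subgroup.mem_normalizer_iff]
    intro k
    have key : ∀ k' ∈ K, s * k' * s⁻¹ = k' := by
      intro k' hk'
      rw [← hcomm k' hk' s hs]; group
    constructor
    · intro hk
      rw [key k hk]; exact hk
    · intro hk
      have h1 : s * k * s⁻¹ * s = s * (s * k * s⁻¹) := hcomm _ hk s hs
      have h2 : k = s * k * s⁻¹ := by
        have h3 : s * k = s * (s * k * s⁻¹) := by
          rw [← h1]; group
        exact mul_left_cancel h3
      rw [h2]; exact hk
  have hset : ((K ⊔ Ks : Subgroup G) : Set G) = (K : Set G) * (Ks : Set G) :=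
    Subgroup.coe_mul_of_right_le_normalizer_left K Ks hnorm
  apply le_antisymm
  · intro y hy
    have hy1 : y ∈ M ⊓ Subgroup.centralizer ({x} : Set G) := ⟨hDM hy.1, hy.2⟩
    rw [hC] at hy1
    have hy2 : y ∈ ((K ⊔ Ks : Subgroup G) : Set G) := hy1
    rw [hset] at hy2
    obtain ⟨k, hk, s, hs, rfl⟩ := Set.mem_mul.mp hy2
    have hkD : k ∈ D := by
      have : k = (k * s) * s⁻¹ := by group
      rw [this]
      exact D.mul_mem hy.1 (D.inv_mem (hKsD hs))
    have hk1 : k = 1 := by
      have : k ∈ K ⊓ D := ⟨hk, hkD⟩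
      rw [hKD] at this
      exact Subgroup.mem_bot.mp this
    rw [hk1, one_mul]
    exact hs
  · intro y hy
    refine ⟨hKsD hy, ?_⟩
    have : y ∈ M ⊓ Subgroup.centralizer ({x} : Set G) := by
      rw [hC]; exact Subgroup.mem_sup_right hy
    exact this.2

/-! ### `fittingHallOf` -/

theorem fittingHallOf_le' (M : Subgroup G) : fittingHallOf M ≤ M :=
  Subgroup.map_subtype_le _

theorem le_normalizer_fittingHallOf (M : Subgroup G) :
    M ≤ Subgroup.normalizer ((fittingHallOf M : Subgroup G) : Set G) :=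
  Cfsg.Agent.Lib.Helper23.le_normalizer_map_subtype_of_normal _ (fittingHall_normal ↥M)

theorem fittingHallOf_isNilpotent [Finite G] (M : Subgroup G) :
    Group.IsNilpotent ↥(fittingHallOf M) := by
  have h1 : Group.IsNilpotent ↥(fittingHall ↥M) :=
    Cfsg.Agent.Lib.Helper4.CN.fittingHall_nilpotent ↥M
  exact Group.nilpotent_of_mulEquiv
    ((fittingHall ↥M).equivMapOfInjective M.subtype M.subtype_injective)

theorem fittingHallOf_coprime [Finite G] (M : Subgroup G) :
    (Nat.card ↥(fittingHallOf M)).Coprime ((fittingHallOf M).relIndex M) := by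
  have h1 := Cfsg.Agent.Lib.Helper23.fittingHall_coprime ↥M
  rw [Cfsg.Agent.Lib.Helper23.card_fittingHallOf]
  unfold fittingHallOf
  rw [Cfsg.Agent.Lib.Helper67.BG.relIndex_map_subtype]
  exact h1

/-- A normal nilpotent Hall subgroup of `M` lies in `M_F`. -/
theorem le_fittingHallOf {M N : Subgroup G} (hNM : N ≤ M)
    (hnorm : M ≤ Subgroup.normalizer (N : Set G)) (hnil : Group.IsNilpotent ↥N)
    (hcop : (Nat.card ↥N).Coprime (N.relIndex M)) : N ≤ fittingHallOf M := by
  have hn : (N.subgroupOf M).Normal :=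
    (Subgroup.normal_subgroupOf_iff_le_normalizer hNM).mpr hnorm
  have hnil' : Group.IsNilpotent ↥(N.subgroupOf M) :=
    Group.nilpotent_of_mulEquiv (Subgroup.subgroupOfEquivOfLe hNM).symm
  have hcop' : (Nat.card ↥(N.subgroupOf M)).Coprime (N.subgroupOf M).index := by
    rw [Nat.card_congr (Subgroup.subgroupOfEquivOfLe hNM).toEquiv]
    exact hcop
  have h1 : N.subgroupOf M ≤ fittingHall ↥M :=
    Cfsg.Agent.Lib.Helper4.CN.le_fittingHall _ hnil' hcop'
  have h2 := Subgroup.map_mono (f := M.subtype) h1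
  rwa [Subgroup.map_subgroupOf_eq_of_le hNM] at h2

/-- Characterization of `M_F`. -/
theorem fittingHallOf_eq_of [Finite G] {M N : Subgroup G} (hNM : N ≤ M)
    (hnorm : M ≤ Subgroup.normalizer (N : Set G)) (hnil : Group.IsNilpotent ↥N)
    (hcop : (Nat.card ↥N).Coprime (N.relIndex M))
    (hmax : ∀ N' : Subgroup G, N' ≤ M → M ≤ Subgroup.normalizer (N' : Set G) →
      Group.IsNilpotent ↥N' → (Nat.card ↥N').Coprime (N'.relIndex M) → N' ≤ N) :
    fittingHallOf M = N :=
  le_antisymm
    (hmax _ (fittingHallOf_le' M) (le_normalizer_fittingHallOf M) (fittingHallOf_isNilpotent M)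
      (fittingHallOf_coprime M))
    (le_fittingHallOf hNM hnorm hnil hcop)

theorem fittingHall_eq_subgroupOf (X : Subgroup G) :
    fittingHall ↥X = (fittingHallOf X).subgroupOf X := by
  unfold fittingHallOf Subgroup.subgroupOf
  rw [Subgroup.comap_map_eq_self_of_injective X.subtype_injective]

end Cfsg.Agent.Lib.Helper71.BG
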