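import Mathlib
import Cfsg.Prelude.Def_OddOrderLocal
import Cfsg.Agent.Lib.Helper71.BG.TypeBasics

/-!
# More generic lemmas for the identification of the five types

`M_F` of a normal Hall subgroup, groups of Frobenius type, Sylow subgroups of nilpotent Hall
subgroups of `M_σ`, and `κ(M) ≠ ∅` for subgroups of type P.
-/

set_option autoImplicit false

namespace Cfsg.Agent.Lib.Helper71.BG

open Cfsg Cfsg.Agent.Lib.Helper46 Cfsg.Agent.Lib.Helper35.BG
open scoped Pointwise

variable {G : Type*} [Group G]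

theorem coprime_of_isPiHallOf {π : Set ℕ} {H M : Subgroup G} (h : IsPiHallOf π H M) :
    (Nat.card ↥H).Coprime (H.relIndex M) :=
  Nat.coprime_of_dvd fun p hp hdvd => h.2.2 p hp (h.2.1 p hp hdvd)

theorem not_dvd_of_coprime_of_dvd {p a b : ℕ} (hp : p.Prime) (hab : a.Coprime b) (ha : p ∣ a) :
    ¬ p ∣ b := by
  intro hb
  have h4 : p ∣ Nat.gcd a b := Nat.dvd_gcd ha hb
  rw [hab.gcd_eq_one] at h4
  exact hp.one_lt.ne' (Nat.dvd_one.mp h4)

/-- If `X` is a normal Hall subgroup of `M` containing `M_F`, then `X_F = M_F`. -/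
theorem fittingHallOf_eq_of_hall [Finite G] {M X : Subgroup G} (hXM : X ≤ M)
    (hXn : M ≤ Subgroup.normalizer (X : Set G))
    (hXcop : (Nat.card ↥X).Coprime (X.relIndex M)) (hFX : fittingHallOf M ≤ X) :
    fittingHallOf X = fittingHallOf M := by
  apply fittingHallOf_eq_of hFX (hXM.trans (le_normalizer_fittingHallOf M))
    (fittingHallOf_isNilpotent M)
  · have h1 := fittingHallOf_coprime M
    have h2 : (fittingHallOf M).relIndex X ∣ (fittingHallOf M).relIndex M :=
      Dvd.intro _ (Subgroup.relIndex_mul_relIndex _ _ _ hFX hXM)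
    exact Nat.Coprime.coprime_dvd_right h2 h1
  · intro N' hN'X hXN' hnil hcop
    have hN'M : N' ≤ M := hN'X.trans hXM
    have hMN' : M ≤ Subgroup.normalizer (N' : Set G) := by
      intro m hm
      apply mem_normalizer_of_map_conj_eq
      have hle : N'.map (MulAut.conj m).toMonoidHom ≤ N' := by
        apply Cfsg.Agent.Lib.Helper27.BG.le_of_coprime_relIndex hN'X hXN'
        · rintro _ ⟨y, hy, rfl⟩
          have := (Subgroup.mem_normalizer_iff.mp (hXn hm) y).mp (hN'X hy)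
          simpa [MulAut.conj_apply] using this
        · rw [card_map_conj]; exact hcop
      exact Subgroup.eq_of_le_of_card_ge hle (by rw [card_map_conj])
    apply le_fittingHallOf hN'M hMN' hnil
    rw [← Subgroup.relIndex_mul_relIndex _ _ _ hN'X hXM]
    apply Nat.Coprime.mul_right hcop
    exact Nat.Coprime.coprime_dvd_left (Subgroup.card_dvd_of_le hN'X) hXcop

/-- A complement inside `M` gives complementary subgroups of the group `↥M`. -/
theorem isComplement'_of_isComplIn {A B M : Subgroup G} (h : IsComplIn A B M) :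
    Subgroup.IsComplement' (A.subgroupOf M) (B.subgroupOf M) := by
  obtain ⟨hA, hB, hinf, hprod⟩ := h
  apply Subgroup.isComplement'_of_disjoint_and_mul_eq_univ
  · rw [Subgroup.disjoint_def]
    intro x hxA hxB
    have : (x : G) ∈ A ⊓ B := ⟨Subgroup.mem_subgroupOf.mp hxA, Subgroup.mem_subgroupOf.mp hxB⟩
    rw [hinf, Subgroup.mem_bot] at this
    exact Subtype.ext this
  · ext m
    simp only [Set.mem_univ, iff_true]
    obtain ⟨a, ha, b, hb, hm⟩ := hprod m m.2
    rw [Set.mem_mul]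
    exact ⟨⟨a, hA ha⟩, Subgroup.mem_subgroupOf.mpr ha, ⟨b, hB hb⟩, Subgroup.mem_subgroupOf.mpr hb,
      Subtype.ext hm.symm⟩

/-- Assembling a group of Frobenius type from subgroups of the ambient group. -/
theorem isOfTypeF_of [Finite G] {X H U U₁ U₀ : Subgroup G} (hsolv : Group.IsSolvable ↥X)
    (hodd : Odd (Nat.card ↥X)) (hH : fittingHallOf X = H) (hH1 : H ≠ ⊥) (hU1 : U ≠ ⊥)
    (hcompl : IsComplIn H U X) (hU₁U : U₁ ≤ U) (hU₁n : U ≤ Subgroup.normalizer (U₁ : Set G))
    (hU₁c : IsMulCommutative ↥U₁)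
    (hU₁ : ∀ x ∈ H, x ≠ 1 → U ⊓ Subgroup.centralizer ({x} : Set G) ≤ U₁)
    (hU₀U : U₀ ≤ U) (hexp : Monoid.exponent ↥U₀ = Monoid.exponent ↥U)
    (hU₀ : ∀ u ∈ U₀, u ≠ 1 → ∀ x ∈ H, u * x = x * u → x = 1) : IsOfTypeF ↥X := by
  obtain ⟨hHX, hUX, hinf, hprod⟩ := id hcompl
  have hF : fittingHall ↥X = H.subgroupOf X := by rw [fittingHall_eq_subgroupOf, hH]
  refine ⟨hsolv, hodd, ?_, ?_, U.subgroupOf X, ?_, ?_, ⟨U₁.subgroupOf X, ?_, ?_, ?_, ?_⟩,
    ⟨U₀.subgroupOf X, ?_, ?_, ?_⟩⟩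
  · rw [hF]
    intro h
    apply hH1
    rw [eq_bot_iff]
    intro x hx
    have : (⟨x, hHX hx⟩ : ↥X) ∈ H.subgroupOf X := Subgroup.mem_subgroupOf.mpr hx
    rw [h, Subgroup.mem_bot] at this
    rw [Subgroup.mem_bot]
    exact congrArg Subtype.val this
  · rw [hF]
    intro h
    apply hU1
    rw [eq_bot_iff]
    intro u hu
    have : (⟨u, hUX hu⟩ : ↥X) ∈ H.subgroupOf X := by rw [h]; exact Subgroup.mem_top _
    have hu' : u ∈ H ⊓ U := ⟨Subgroup.mem_subgroupOf.mp this, hu⟩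
    rw [hinf] at hu'
    exact hu'
  · intro h
    apply hU1
    rw [eq_bot_iff]
    intro u hu
    have : (⟨u, hUX hu⟩ : ↥X) ∈ U.subgroupOf X := Subgroup.mem_subgroupOf.mpr hu
    rw [h, Subgroup.mem_bot] at this
    rw [Subgroup.mem_bot]
    exact congrArg Subtype.val this
  · rw [hF]
    exact isComplement'_of_isComplIn hcompl
  · intro x hx
    exact Subgroup.mem_subgroupOf.mpr (hU₁U (Subgroup.mem_subgroupOf.mp hx))
  · intro u hu
    rw [Subgroup.mem_normalizer_iff]
    intro y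
    have h1 := (Subgroup.mem_normalizer_iff.mp (hU₁n (Subgroup.mem_subgroupOf.mp hu))) (y : G)
    simpa [Subgroup.mem_subgroupOf] using h1
  · rw [isMulCommutative_subgroup_iff]
    intro a ha b hb
    have := (isMulCommutative_subgroup_iff.mp hU₁c) (a : G) (Subgroup.mem_subgroupOf.mp ha) (b : G)
      (Subgroup.mem_subgroupOf.mp hb)
    exact Subtype.ext this
  · intro x hx hx1
    rw [hF] at hx
    intro y hy
    rw [Subgroup.mem_subgroupOf]
    apply hU₁ (x : G) (Subgroup.mem_subgroupOf.mp hx) (fun h => hx1 (Subtype.ext h))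
    have h2 := Subgroup.mem_centralizer_singleton_iff.mp hy.2
    exact ⟨Subgroup.mem_subgroupOf.mp hy.1,
      Subgroup.mem_centralizer_singleton_iff.mpr (congrArg Subtype.val h2)⟩
  · intro x hx
    exact Subgroup.mem_subgroupOf.mpr (hU₀U (Subgroup.mem_subgroupOf.mp hx))
  · rw [Monoid.exponent_eq_of_mulEquiv (Subgroup.subgroupOfEquivOfLe (hU₀U.trans hUX)),
      Monoid.exponent_eq_of_mulEquiv (Subgroup.subgroupOfEquivOfLe hUX), hexp]
  · intro u hu hu1 x hx hux
    rw [hF] at hx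
    have := hU₀ (u : G) (Subgroup.mem_subgroupOf.mp hu) (fun h => hu1 (Subtype.ext h)) (x : G)
      (Subgroup.mem_subgroupOf.mp hx) (congrArg Subtype.val hux)
    exact Subtype.ext this

/-- A `p`-subgroup of `M` of index prime to `p` is a Sylow `p`-subgroup of `M`. -/
theorem isSylowIn_of_not_dvd [Finite G] {p : ℕ} [Fact p.Prime] {R M : Subgroup G} (hRM : R ≤ M)
    (hR : IsPGroup p R) (hnd : ¬ p ∣ R.relIndex M) : IsSylowIn p R M := by
  refine ⟨hRM, ?_⟩
  obtain ⟨n, hn⟩ := IsPGroup.iff_card.mp hR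
  have hp : p.Prime := Fact.out
  have h1 : Nat.card ↥R * R.relIndex M = Nat.card ↥M := card_mul_relIndex' hRM
  have h2 : R.relIndex M ≠ 0 := by
    intro h
    rw [h, mul_zero] at h1
    exact Nat.card_pos.ne' h1.symm
  rw [← h1, Nat.factorization_mul Nat.card_pos.ne' h2, Finsupp.add_apply,
    Nat.factorization_eq_zero_of_not_dvd hnd, add_zero, hn, hp.factorization_pow,
    Finsupp.single_eq_same]

/-- The normalizer of a nontrivial nilpotent complement of `M_F` in `M_σ` lies in `M`. -/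
theorem normalizer_le_of_nilpotent_hall [Finite G] {M UP : Subgroup G}
    (hσ : IsPiHallOf (sigma M) (sigmaCore M) M) (hUP1 : UP ≠ ⊥) (hnil : Group.IsNilpotent ↥UP)
    (hc : IsComplIn (fittingHallOf M) UP (sigmaCore M)) :
    Subgroup.normalizer (UP : Set G) ≤ M := by
  obtain ⟨hFσ, hUσ, hinf, hprod⟩ := id hc
  have hσM : sigmaCore M ≤ M := Cfsg.Agent.Lib.Helper67.BG.sigmaCore_le M
  have hcard : Nat.card ↥UP ≠ 1 := fun h => hUP1 (Subgroup.card_eq_one.mp h)
  obtain ⟨r, hr, hrdvd⟩ := Nat.exists_prime_and_dvd hcard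
  have : Fact r.Prime := ⟨hr⟩
  obtain ⟨P⟩ : Nonempty (Sylow r ↥UP) := inferInstance
  have hPn : (P : Subgroup ↥UP).Normal :=
    Sylow.normal_of_normalizerCondition Group.normalizerCondition_of_isNilpotent P
  obtain ⟨R, hRdef⟩ : ∃ R : Subgroup G, R = (P : Subgroup ↥UP).map UP.subtype := ⟨_, rfl⟩
  have hRUP : R ≤ UP := hRdef ▸ Subgroup.map_subtype_le _
  have hRp : IsPGroup r R := hRdef ▸ P.isPGroup'.map _
  have hRidx : R.relIndex UP = (P : Subgroup ↥UP).index :=
    hRdef ▸ Cfsg.Agent.Lib.Helper67.BG.relIndex_map_subtype UP _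
  have hr1 : ¬ r ∣ R.relIndex UP := by
    rw [hRidx]
    exact P.not_dvd_index
  have hUPnR : UP ≤ Subgroup.normalizer (R : Set G) :=
    hRdef ▸ Cfsg.Agent.Lib.Helper23.le_normalizer_map_subtype_of_normal _ hPn
  have hNN : Subgroup.normalizer (UP : Set G) ≤ Subgroup.normalizer (R : Set G) := by
    intro n hn
    apply mem_normalizer_of_map_conj_eq
    have hle : R.map (MulAut.conj n).toMonoidHom ≤ R := by
      apply Cfsg.Agent.Lib.Helper27.BG.le_of_coprime_relIndex hRUP hUPnR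
      · rintro _ ⟨y, hy, rfl⟩
        have := (Subgroup.mem_normalizer_iff.mp hn y).mp (hRUP hy)
        simpa [MulAut.conj_apply] using this
      · rw [card_map_conj]
        obtain ⟨k, hk⟩ := IsPGroup.iff_card.mp hRp
        rw [hk]
        exact Nat.Coprime.pow_left k ((Nat.Prime.coprime_iff_not_dvd hr).mpr hr1)
    exact Subgroup.eq_of_le_of_card_ge hle (by rw [card_map_conj])
  have hrσ : r ∈ sigma M :=
    Cfsg.Agent.Lib.Helper67.BG.sigmaCore_isPi M r hr (hrdvd.trans (Subgroup.card_dvd_of_le hUσ))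
  have hr2 : ¬ r ∣ UP.relIndex (sigmaCore M) := by
    rw [relIndex_right_of_isComplIn hc]
    intro h
    have h3 : r ∣ (fittingHallOf M).relIndex M := by
      rw [← Subgroup.relIndex_mul_relIndex _ _ _ hFσ hσM, relIndex_left_of_isComplIn hc]
      exact Dvd.dvd.mul_right hrdvd _
    exact not_dvd_of_coprime_of_dvd hr (fittingHallOf_coprime M) h h3
  have hr3 : ¬ r ∣ (sigmaCore M).relIndex M := hσ.2.2 r hr hrσ
  have hRM : ¬ r ∣ R.relIndex M := by
    rw [← Subgroup.relIndex_mul_relIndex _ _ _ (hRUP.trans hUσ) hσM,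
      ← Subgroup.relIndex_mul_relIndex _ _ _ hRUP hUσ]
    intro h
    rcases (Nat.Prime.dvd_mul hr).mp h with h | h
    · rcases (Nat.Prime.dvd_mul hr).mp h with h | h
      · exact hr1 h
      · exact hr2 h
    · exact hr3 h
  have hSyl : IsSylowIn r R M := isSylowIn_of_not_dvd ((hRUP.trans hUσ).trans hσM) hRp hRM
  exact hNN.trans (normalizer_le_of_sigma hrσ hSyl)

/-- A subgroup of type P has `κ(M) ≠ ∅`. -/
theorem kappa_nonempty_of_typeP [Finite G] {M W₁ UP W₂ : Subgroup G}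
    (hσ : IsPiHallOf (sigma M) (sigmaCore M) M) (hFσ : fittingHallOf M ≤ sigmaCore M)
    (hσD : sigmaCore M ≤ ⁅M, M⁆) (hP : IsTypePWith M W₁ UP W₂) : (kappa M).Nonempty := by
  have hW₁M : W₁ ≤ M := hP.W₁_compl.2.1
  have hσM : sigmaCore M ≤ M := Cfsg.Agent.Lib.Helper67.BG.sigmaCore_le M
  have hMσ := Cfsg.Agent.Lib.Helper67.BG.sigmaCore_normalizer M
  have hcard : Nat.card ↥W₁ ≠ 1 := fun h => hP.W₁_ne (Subgroup.card_eq_one.mp h)
  obtain ⟨p, hp, hpdvd⟩ := Nat.exists_prime_and_dvd hcard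
  have : Fact p.Prime := ⟨hp⟩
  obtain ⟨x, hxW, hxo⟩ : ∃ x, x ∈ W₁ ∧ orderOf x = p := by
    obtain ⟨x, hx⟩ := exists_prime_orderOf_dvd_card' (G := ↥W₁) p hpdvd
    exact ⟨x, x.2, by rw [Subgroup.orderOf_coe, hx]⟩
  have hx1 : x ≠ 1 := by
    rintro rfl
    rw [orderOf_one] at hxo
    exact hp.one_lt.ne hxo
  have hW₂ : W₂ ≠ ⊥ := hP.selfNormalizing.2.1
  obtain ⟨⟨y, hyW⟩, hy1'⟩ := (Subgroup.ne_bot_iff_exists_ne_one).mp hW₂
  have hy1 : y ≠ 1 := fun h => hy1' (Subtype.ext h)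
  have hyC : y ∈ ⁅M, M⁆ ⊓ Subgroup.centralizer ({x} : Set G) := by
    rw [hP.W₂_centralizer x hxW hx1]
    exact hyW
  have hyx : x * y = y * x := (Subgroup.mem_centralizer_singleton_iff.mp hyC.2).symm
  have hyσ : y ∈ sigmaCore M := hFσ (hP.W₂_le hyW).1
  have hpσ : p ∉ sigma M := by
    intro hps
    have hz : Subgroup.zpowers x ≤ sigmaCore M := by
      apply Cfsg.Agent.Lib.Helper27.BG.le_of_coprime_relIndex hσM hMσ
      · rw [Subgroup.zpowers_le]
        exact hW₁M hxW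
      · rw [Nat.card_zpowers, hxo]
        exact (Nat.Prime.coprime_iff_not_dvd hp).mpr (hσ.2.2 p hp hps)
    have hxD : x ∈ ⁅M, M⁆ ⊓ W₁ := ⟨hσD (hz (Subgroup.mem_zpowers x)), hxW⟩
    rw [hP.W₁_compl.2.2.1] at hxD
    exact hx1 (Subgroup.mem_bot.mp hxD)
  have hzp : IsPGroup p ↥(Subgroup.zpowers x) :=
    IsPGroup.of_card (n := 1) (by rw [Nat.card_zpowers, hxo, pow_one])
  obtain ⟨Q, hQ, hxQ⟩ := exists_isSylowIn_ge (H := W₁) hzp
    (by rw [Subgroup.zpowers_le]; exact hxW)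
  have hnd : ¬ p ∣ W₁.relIndex M := not_dvd_of_coprime_of_dvd hp hP.W₁_hall hpdvd
  have hQM : IsSylowIn p Q M := by
    refine ⟨hQ.1.trans hW₁M, ?_⟩
    rw [hQ.2]
    congr 1
    have h1 : Nat.card ↥W₁ * W₁.relIndex M = Nat.card ↥M := card_mul_relIndex' hW₁M
    have h2 : W₁.relIndex M ≠ 0 := by
      intro h
      rw [h, mul_zero] at h1
      exact Nat.card_pos.ne' h1.symm
    rw [← h1, Nat.factorization_mul Nat.card_pos.ne' h2, Finsupp.add_apply,
      Nat.factorization_eq_zero_of_not_dvd hnd, add_zero]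
  refine ⟨p, hp, hpdvd.trans (Subgroup.card_dvd_of_le hW₁M), hpσ, ?_⟩
  intro P
  obtain ⟨g, hg, hPg⟩ := hQM.exists_conj (isSylowIn_of_sylow P)
  have hcyc : IsCyclic ↥W₁ := hP.W₁_cyclic
  constructor
  · have hmem : ∀ a : ↥(P : Subgroup ↥M), g⁻¹ * ((a : ↥M) : G) * g ∈ W₁ := by
      intro a
      have h1 : ((a : ↥M) : G) ∈ (P : Subgroup ↥M).map M.subtype := ⟨a, a.2, rfl⟩
      rw [hPg, mem_map_conj_iff] at h1
      exact hQ.1 h1
    let f : ↥(P : Subgroup ↥M) →* ↥W₁ :=
      { toFun := fun a => ⟨g⁻¹ * ((a : ↥M) : G) * g, hmem a⟩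
        map_one' := by
          apply Subtype.ext
          simp
        map_mul' := by
          intro a b
          apply Subtype.ext
          simp only [Subgroup.coe_mul]
          group }
    have hf : Function.Injective f := by
      intro a b hab
      have h1 : g⁻¹ * ((a : ↥M) : G) * g = g⁻¹ * ((b : ↥M) : G) * g := congrArg Subtype.val hab
      have h2 : ((a : ↥M) : G) = ((b : ↥M) : G) := by
        have := congrArg (fun t => g * t * g⁻¹) h1
        simpa [mul_assoc] using this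
      exact Subtype.ext (Subtype.ext h2)
    exact isCyclic_of_injective f hf
  · have h1 : g * x * g⁻¹ ∈ (P : Subgroup ↥M).map M.subtype := by
      rw [hPg]
      exact conj_mem_map_conj g (hxQ (Subgroup.mem_zpowers x))
    obtain ⟨x', hx'P, hx'⟩ := h1
    have hx'' : ((x' : ↥M) : G) = g * x * g⁻¹ := hx'
    refine ⟨x', hx'P, ?_, g * y * g⁻¹, ?_, ?_, ?_⟩
    · intro h
      rw [h] at hx''
      apply hx1
      have : x = g⁻¹ * (g * x * g⁻¹) * g := by group
      rw [this, ← hx'']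
      simp
    · exact (Subgroup.mem_normalizer_iff.mp (hMσ hg) y).mp hyσ
    · intro h
      apply hy1
      have : y = g⁻¹ * (g * y * g⁻¹) * g := by group
      rw [this, h]
      simp
    · rw [hx'']
      calc g * x * g⁻¹ * (g * y * g⁻¹) = g * (x * y) * g⁻¹ := by group
        _ = g * (y * x) * g⁻¹ := by rw [hyx]
        _ = g * y * g⁻¹ * (g * x * g⁻¹) := by group

theorem ne_bot_of_kappa_nonempty {M K : Subgroup G} (hK : IsPiHallOf (kappa M) K M)
    (h : (kappa M).Nonempty) : K ≠ ⊥ := by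
  rintro rfl
  obtain ⟨p, hp⟩ := h
  have := hK.2.2 p hp.1 hp
  rw [Subgroup.relIndex_bot_left] at this
  exact this hp.2.1

end Cfsg.Agent.Lib.Helper71.BG
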