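import Mathlib
import Cfsg.Prelude.Def_OddOrderLocal
import Cfsg.Agent.Lib.Helper71.BG.TypeBasics2

/-!
# Invariant complements of `M_F`, nilpotency of such complements, Hall conjugacy of complements
-/

set_option autoImplicit false

namespace Cfsg.Agent.Lib.Helper71.BG

open Cfsg Cfsg.Agent.Lib.Helper46 Cfsg.Agent.Lib.Helper35.BG
open scoped Pointwise

variable {G : Type*} [Group G]

theorem isNilpotent_of_comm {H : Type*} [Group H] (h : IsMulCommutative H) : Group.IsNilpotent H :=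
  ⟨⟨1, Subgroup.upperCentralSeries_one_eq_top_iff.mpr h⟩⟩

theorem isNilpotent_of_injective_hom {H N : Type*} [Group H] [Group N] [Group.IsNilpotent N]
    (f : H →* N) (hf : Function.Injective f) : Group.IsNilpotent H :=
  Group.nilpotent_of_mulEquiv (MonoidHom.ofInjective hf).symm

/-- A complement of the normal Hall subgroup `N` of `X` is a Hall subgroup of `X` for the primes
not dividing `|N|`. -/
theorem isPiHallOf_of_isComplIn_hall [Finite G] {N B X : Subgroup G} (hc : IsComplIn N B X)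
    (hcop : (Nat.card ↥N).Coprime (N.relIndex X)) :
    IsPiHallOf {q | q.Prime ∧ ¬ q ∣ Nat.card ↥N} B X := by
  refine ⟨hc.2.1, ?_, ?_⟩
  · intro p hp hdvd
    refine ⟨hp, ?_⟩
    rw [← relIndex_left_of_isComplIn hc] at hdvd
    exact not_dvd_of_coprime_of_dvd hp hcop.symm hdvd
  · intro p hp hpπ
    rw [relIndex_right_of_isComplIn hc]
    exact hpπ.2

/-- A `K`-invariant complement of the normal Hall subgroup `F` of `M` inside the normal subgroup
`S`. -/
theorem exists_invariant_complement [Finite G] {M F S K : Subgroup G}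
    (hsolv : Group.IsSolvable ↥M) (hFS : F ≤ S) (hSM : S ≤ M)
    (hSn : M ≤ Subgroup.normalizer (S : Set G))
    (hKM : K ≤ M) (hFcop : (Nat.card ↥F).Coprime (F.relIndex M))
    (hKF : (Nat.card ↥K).Coprime (Nat.card ↥F)) :
    ∃ UP : Subgroup G, IsComplIn F UP S ∧ K ≤ Subgroup.normalizer (UP : Set G) := by
  have hFM : F ≤ M := hFS.trans hSM
  obtain ⟨E, hE, hKE⟩ := Cfsg.Agent.Lib.Helper67.BG.exists_piHallOf_ge
    {q | q.Prime ∧ ¬ q ∣ Nat.card ↥F} M hsolv K hKM
    (fun p hp hdvd => ⟨hp, not_dvd_of_coprime_of_dvd hp hKF hdvd⟩)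
  have hEM : E ≤ M := hE.1
  -- the orders of `F` and `E` are coprime
  have hcopFE : (Nat.card ↥F).Coprime (Nat.card ↥E) :=
    Nat.coprime_of_dvd fun p hp hpF hpE => (hE.2.1 p hp hpE).2 hpF
  -- `|E| = [M : F]`
  have e1 : Nat.card ↥F * F.relIndex M = Nat.card ↥M := card_mul_relIndex' hFM
  have e2 : Nat.card ↥E * E.relIndex M = Nat.card ↥M := card_mul_relIndex' hEM
  have hcop2 : (F.relIndex M).Coprime (E.relIndex M) := by
    apply Nat.coprime_of_dvd
    intro p hp h1 h2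
    by_cases hpF : p ∣ Nat.card ↥F
    · exact not_dvd_of_coprime_of_dvd hp hFcop hpF h1
    · exact hE.2.2 p hp ⟨hp, hpF⟩ h2
  have hcard : Nat.card ↥E = F.relIndex M := by
    apply Nat.dvd_antisymm
    · have h1 : Nat.card ↥E ∣ Nat.card ↥F * F.relIndex M := by
        rw [e1, ← e2]
        exact Dvd.intro _ rfl
      exact (Nat.Coprime.dvd_mul_left hcopFE.symm).mp h1
    · have h1 : F.relIndex M ∣ Nat.card ↥E * E.relIndex M := by
        rw [e2, ← e1]
        exact Dvd.intro_left _ rfl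
      exact (Nat.Coprime.dvd_mul_right hcop2).mp h1
  -- complement in `↥M`
  have hcompl : Subgroup.IsComplement' (F.subgroupOf M) (E.subgroupOf M) := by
    apply Subgroup.isComplement'_of_coprime
    · rw [Nat.card_congr (Subgroup.subgroupOfEquivOfLe hFM).toEquiv,
        Nat.card_congr (Subgroup.subgroupOfEquivOfLe hEM).toEquiv, hcard]
      exact e1
    · rw [Nat.card_congr (Subgroup.subgroupOfEquivOfLe hFM).toEquiv,
        Nat.card_congr (Subgroup.subgroupOfEquivOfLe hEM).toEquiv]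
      exact hcopFE
  have hinf : F ⊓ E = ⊥ := (Subgroup.disjoint_of_coprime_natCard hcopFE).eq_bot
  refine ⟨E ⊓ S, ⟨hFS, inf_le_right, ?_, ?_⟩, ?_⟩
  · rw [eq_bot_iff, ← hinf]
    exact inf_le_inf_left _ inf_le_left
  · intro m hm
    obtain ⟨⟨⟨a, ha⟩, ⟨b, hb⟩⟩, hab⟩ := hcompl.2 ⟨m, hSM hm⟩
    have hab' : (a : G) * (b : G) = m := congrArg Subtype.val hab
    have haF : (a : G) ∈ F := Subgroup.mem_subgroupOf.mp ha
    have hbE : (b : G) ∈ E := Subgroup.mem_subgroupOf.mp hb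
    refine ⟨a, haF, b, ⟨hbE, ?_⟩, hab'.symm⟩
    have : (b : G) = (a : G)⁻¹ * m := by rw [← hab']; group
    rw [this]
    exact S.mul_mem (S.inv_mem (hFS haF)) hm
  · intro k hk
    rw [Subgroup.mem_normalizer_iff]
    intro y
    have h1 := Subgroup.mem_normalizer_iff.mp (Subgroup.le_normalizer (hKE hk)) y
    have h2 := Subgroup.mem_normalizer_iff.mp (hSn (hKM hk)) y
    constructor
    · rintro ⟨hyE, hyS⟩
      exact ⟨h1.mp hyE, h2.mp hyS⟩
    · rintro ⟨hyE, hyS⟩
      exact ⟨h1.mpr hyE, h2.mpr hyS⟩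

/-- A subgroup of `M'` meeting `M_F` trivially is nilpotent as soon as `M'/M_F` is. -/
theorem isNilpotent_of_inf_fittingHallOf_eq_bot {M UP : Subgroup G}
    (hnil : Group.IsNilpotent ↥((commutator ↥M).map (QuotientGroup.mk' (fittingHall ↥M))))
    (hUPD : UP ≤ ⁅M, M⁆) (hinf : fittingHallOf M ⊓ UP = ⊥) : Group.IsNilpotent ↥UP := by
  have hmem : ∀ u : ↥UP, ∃ w : ↥M, w ∈ commutator ↥M ∧ (w : G) = (u : G) := by
    intro u
    have h1 : (u : G) ∈ ⁅M, M⁆ := hUPD u.2
    rw [← Subgroup.map_subtype_commutator] at h1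
    obtain ⟨w, hw, hwu⟩ := h1
    exact ⟨w, hw, hwu⟩
  have hUPM : UP ≤ M := by
    intro u hu
    obtain ⟨w, -, hwu⟩ := hmem ⟨u, hu⟩
    have : (w : G) = u := hwu
    rw [← this]
    exact w.2
  have hmem' : ∀ u : ↥UP, (⟨(u : G), hUPM u.2⟩ : ↥M) ∈ commutator ↥M := by
    intro u
    obtain ⟨w, hw, hwu⟩ := hmem u
    have : w = ⟨(u : G), hUPM u.2⟩ := Subtype.ext hwu
    rw [← this]
    exact hw
  let f : ↥UP →* ↥((commutator ↥M).map (QuotientGroup.mk' (fittingHall ↥M))) :=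
    { toFun := fun u => ⟨QuotientGroup.mk' (fittingHall ↥M) ⟨(u : G), hUPM u.2⟩,
        ⟨⟨(u : G), hUPM u.2⟩, hmem' u, rfl⟩⟩
      map_one' := by
        apply Subtype.ext
        exact (QuotientGroup.mk' (fittingHall ↥M)).map_one
      map_mul' := by
        intro a b
        apply Subtype.ext
        exact (QuotientGroup.mk' (fittingHall ↥M)).map_mul ⟨(a : G), hUPM a.2⟩ ⟨(b : G), hUPM b.2⟩ }
  have hf : Function.Injective f := by
    intro a b hab
    have h1 : QuotientGroup.mk' (fittingHall ↥M) ⟨(a : G), hUPM a.2⟩ =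
        QuotientGroup.mk' (fittingHall ↥M) ⟨(b : G), hUPM b.2⟩ := congrArg Subtype.val hab
    have h2 : (⟨(a : G), hUPM a.2⟩ : ↥M)⁻¹ * ⟨(b : G), hUPM b.2⟩ ∈ fittingHall ↥M :=
      QuotientGroup.eq.mp h1
    have h3 : (a : G)⁻¹ * (b : G) ∈ fittingHallOf M ⊓ UP :=
      ⟨⟨_, h2, rfl⟩, UP.mul_mem (UP.inv_mem a.2) b.2⟩
    rw [hinf, Subgroup.mem_bot] at h3
    apply Subtype.ext
    exact inv_mul_eq_one.mp h3
  exact isNilpotent_of_injective_hom f hf

/-- A cyclic subgroup of `M` meeting `M_F` trivially has order dividing the exponent of `M/M_F`. -/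
theorem card_dvd_exponent_quotient [Finite G] {M K : Subgroup G} (hKc : IsCyclic ↥K) (hKM : K ≤ M)
    (hinf : K ⊓ fittingHallOf M = ⊥) :
    Nat.card ↥K ∣ Monoid.exponent (↥M ⧸ fittingHall ↥M) := by
  obtain ⟨k, hk⟩ := IsCyclic.exists_generator (α := ↥K)
  have ho : orderOf k = Nat.card ↥K := orderOf_eq_card_of_forall_mem_zpowers hk
  obtain ⟨k', hk'⟩ : ∃ k' : ↥M, k' = ⟨(k : G), hKM k.2⟩ := ⟨_, rfl⟩
  have ho' : orderOf k' = Nat.card ↥K := by
    rw [← ho, ← Subgroup.orderOf_coe k', hk', ← Subgroup.orderOf_coe k]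
  have h1 : orderOf k' ∣ orderOf (QuotientGroup.mk' (fittingHall ↥M) k') := by
    apply orderOf_dvd_of_pow_eq_one
    have h2 : (QuotientGroup.mk' (fittingHall ↥M) k') ^
        orderOf (QuotientGroup.mk' (fittingHall ↥M) k') = 1 := pow_orderOf_eq_one _
    rw [← map_pow] at h2
    have h3 : k' ^ orderOf (QuotientGroup.mk' (fittingHall ↥M) k') ∈ fittingHall ↥M :=
      (QuotientGroup.eq_one_iff _).mp h2
    have h4 : ((k' ^ orderOf (QuotientGroup.mk' (fittingHall ↥M) k') : ↥M) : G) ∈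
        K ⊓ fittingHallOf M := by
      refine ⟨?_, ⟨_, h3, rfl⟩⟩
      rw [Subgroup.coe_pow, hk']
      exact K.pow_mem k.2 _
    rw [hinf, Subgroup.mem_bot] at h4
    exact Subtype.ext h4
  rw [← ho']
  exact h1.trans (Monoid.order_dvd_exponent _)

end Cfsg.Agent.Lib.Helper71.BG
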