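import Mathlib
import Cfsg.Prelude.Def_OddOrderLocal
import Cfsg.Statements.S1350
import Cfsg.Statements.S1354
import Cfsg.Statements.S1355
import Cfsg.Statements.S1356
import Cfsg.Statements.S1357
import Cfsg.Statements.S1360
import Cfsg.Statements.S1363
import Cfsg.Statements.S1364
import Cfsg.Statements.S1365
import Cfsg.Statements.S1366
import Cfsg.Statements.S1368
import Cfsg.Statements.S1370
import Cfsg.Statements.S1372
import Cfsg.Statements.S1381
import Cfsg.Statements.S1382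
import Cfsg.Statements.S1383
import Cfsg.Statements.S1440
import Cfsg.Agent.Lib.Helper47.BG.S1385Core
import Cfsg.Agent.Lib.Helper71.BG.TypeBasics3

/-!
# Bender–Glauberman campaign: the cores of S1381, S1382, S1383

The identification of the maximal subgroups of Types II, III/IV and V of a minimal simple group of
odd order in terms of the standard factorisation `M = K U M_σ`, assembled from earlier statements
of the chain taken as explicit hypotheses.  With `K ≠ 1` the type-P data are `W₁ = K`,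
`W₂ = K* = C_{M_σ}(K)` and `U` (Type II), a `K`-invariant complement of `M_F` in `M_σ`
(Types III, IV), or `1` (Type V).
-/

set_option autoImplicit false

namespace Cfsg.Agent.Lib.Helper71.BG

open Cfsg Cfsg.Agent.Lib.Helper46 Cfsg.Agent.Lib.Helper35.BG Cfsg.Agent.Lib.Helper47.BG
open scoped Pointwise

/-- The type-P data of a maximal subgroup with `K ≠ 1`, for any nilpotent `K`-invariant complement
`UP` of `M_F` in `M'`. -/
theorem typeP_of {G : Type*} [Group G] [Finite G] (hG : Cfsg.IsMinSimpleOddOrder G)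
    (h1354 : type_of% (@Cfsg.CfsgFrozen.S1354 G _ _ hG))
    (h1356 : type_of% (@Cfsg.CfsgFrozen.S1356 G _ _ hG))
    (h1364 : type_of% (@Cfsg.CfsgFrozen.S1364 G _ _ hG))
    (h1365 : type_of% (@Cfsg.CfsgFrozen.S1365 G _ _ hG))
    (h1366 : type_of% (@Cfsg.CfsgFrozen.S1366 G _ _ hG))
    (h1368 : type_of% (@Cfsg.CfsgFrozen.S1368 G _ _ hG))
    (h1370 : type_of% (@Cfsg.CfsgFrozen.S1370 G _ _ hG))
    (M : Subgroup G) (hM : IsCoatom M) (K U : Subgroup G) (hKU : IsSigmaDecomposition M K U)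
    (hK1 : K ≠ ⊥) (UP : Subgroup G) (hUPn : Group.IsNilpotent ↥UP)
    (hKUP : K ≤ Subgroup.normalizer (UP : Set G))
    (hUPc : IsComplIn (fittingHallOf M) UP ⁅M, M⁆) :
    IsTypePWith M K UP (sigmaCore M ⊓ Subgroup.centralizer (K : Set G)) := by
  obtain ⟨-, hKs1, hKsF, hFnc⟩ := h1364 M hM K U hKU hK1
  obtain ⟨hder, hKsD2⟩ := h1365 M hM K U hKU hK1
  obtain ⟨Ms, ⟨hMs, hKst, hKstH⟩, -⟩ := h1366 M hM K U hKU hK1
  obtain ⟨-, hZcyc⟩ := h1368 M hM K U hKU hK1 Ms hMs hKst hKstH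
  obtain ⟨hTI, hNZ⟩ := h1370 M hM K U hKU hK1
  obtain ⟨hD2, hFeq, hFle⟩ := h1356 M hM
  have hcomplK : IsComplIn ⁅M, M⁆ K M := by
    rw [hder]
    exact sigmaDecomposition_complIn M K U hKU
  have hcomm : ∀ a ∈ K, ∀ b ∈ sigmaCore M ⊓ Subgroup.centralizer (K : Set G), a * b = b * a :=
    fun a ha b hb => Subgroup.mem_centralizer_iff.mp hb.2 a ha
  have hKKs : K ⊓ (sigmaCore M ⊓ Subgroup.centralizer (K : Set G)) = ⊥ := by
    rw [eq_bot_iff, ← sigmaDecomposition_inf_sigmaCore M K U hKU]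
    exact inf_le_inf_left _ inf_le_left
  have hκ : (kappa M).Nonempty := kappa_nonempty_of_ne_bot M K hKU.hall hK1
  have hKD : K ⊓ ⁅M, M⁆ = ⊥ := by
    rw [inf_comm]
    exact hcomplK.2.2.1
  have hDM : ⁅M, M⁆ ≤ M := hcomplK.1
  have hKsD : sigmaCore M ⊓ Subgroup.centralizer (K : Set G) ≤ ⁅M, M⁆ := by
    rw [hder]
    exact inf_le_left.trans le_sup_right
  exact
    { W₁_ne := hK1
      W₁_cyclic := hKU.cyclic
      W₁_hall := coprime_of_isPiHallOf hKU.hall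
      W₁_compl := hcomplK
      U_nilpotent := hUPn
      U_normal := hKUP
      U_compl := hUPc
      H_not_cyclic := hFnc
      derived_two_le := by
        rw [sup_comm, ← hFeq]
        exact hD2
      fitting_eq := by
        rw [sup_comm]
        exact hFeq.symm
      fitting_le := hFle hκ
      W₂_le := le_inf hKsF hKsD2
      W₂_centralizer := fun x hx hx1 =>
        inf_centralizer_eq_of hDM hKD hKsD hcomm
          ((h1354 M hM K hKU.cyclic hKU.hall).2 hK1 x hx hx1)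
      selfNormalizing := isSelfNormalizingCyclic_of hK1 hKs1 hKKs hcomm hZcyc hTI hNZ }

/-- The derived subgroup is normalized by `M`. -/
theorem le_normalizer_commutator {G : Type*} [Group G] (M : Subgroup G) :
    M ≤ Subgroup.normalizer ((⁅M, M⁆ : Subgroup G) : Set G) := by
  have h := Cfsg.Agent.Lib.Helper23.le_normalizer_map_subtype_of_normal (commutator ↥M)
    inferInstance
  rwa [Subgroup.map_subtype_commutator] at h

/-- **Core of S1381**: Type II iff `K ≠ 1` and `U ≠ 1`. -/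
theorem s1381_core {G : Type*} [Group G] [Finite G] (hG : Cfsg.IsMinSimpleOddOrder G)
    (h1350 : type_of% (@Cfsg.CfsgFrozen.S1350 G _ _ hG))
    (h1354 : type_of% (@Cfsg.CfsgFrozen.S1354 G _ _ hG))
    (h1355 : type_of% (@Cfsg.CfsgFrozen.S1355 G _ _ hG))
    (h1356 : type_of% (@Cfsg.CfsgFrozen.S1356 G _ _ hG))
    (h1357 : type_of% (@Cfsg.CfsgFrozen.S1357 G _ _ hG))
    (h1360 : type_of% (@Cfsg.CfsgFrozen.S1360 G _ _ hG))
    (h1363 : type_of% (@Cfsg.CfsgFrozen.S1363 G _ _ hG))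
    (h1364 : type_of% (@Cfsg.CfsgFrozen.S1364 G _ _ hG))
    (h1365 : type_of% (@Cfsg.CfsgFrozen.S1365 G _ _ hG))
    (h1366 : type_of% (@Cfsg.CfsgFrozen.S1366 G _ _ hG))
    (h1368 : type_of% (@Cfsg.CfsgFrozen.S1368 G _ _ hG))
    (h1370 : type_of% (@Cfsg.CfsgFrozen.S1370 G _ _ hG))
    (h1372 : type_of% (@Cfsg.CfsgFrozen.S1372 G _ _ hG))
    (M : Subgroup G) (hM : IsCoatom M) (K U : Subgroup G)
    (hKU : Cfsg.IsSigmaDecomposition M K U) :
    Cfsg.IsOfTypeII M ↔ (K ≠ ⊥ ∧ U ≠ ⊥) := by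
  obtain ⟨hσH, -, -⟩ := h1350 M hM
  obtain ⟨hF1, hFσ, hσD, -, -⟩ := h1355 M hM
  have hσM : sigmaCore M ≤ M := Cfsg.Agent.Lib.Helper67.BG.sigmaCore_le M
  have hMσ := Cfsg.Agent.Lib.Helper67.BG.sigmaCore_normalizer M
  constructor
  · rintro ⟨W₁, UP, W₂, hP, hUP1, -, -, -, hNUP, -, -⟩
    have hK1 : K ≠ ⊥ :=
      ne_bot_of_kappa_nonempty hKU.hall (kappa_nonempty_of_typeP hσH hFσ hσD hP)
    refine ⟨hK1, ?_⟩
    intro hU
    obtain ⟨hder, -⟩ := h1365 M hM K U hKU hK1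
    rw [hU, bot_sup_eq] at hder
    apply hNUP
    have hc : IsComplIn (fittingHallOf M) UP (sigmaCore M) := by
      rw [← hder]
      exact hP.U_compl
    exact normalizer_le_of_nilpotent_hall hσH hUP1 hP.U_nilpotent hc
  · rintro ⟨hK1, hU1⟩
    have hFeq : fittingHallOf M = sigmaCore M := by
      by_contra hne
      exact hU1 (h1357 M hM K U hKU hne).1
    obtain ⟨hUc, hNU⟩ := h1363 M hM K U hKU hK1
    obtain ⟨hder, -⟩ := h1365 M hM K U hKU hK1
    obtain ⟨hKp, hTI, -⟩ := h1372 M hM K U hKU hK1 hU1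
    obtain ⟨U₀, hU₀U, hexp, hU₀⟩ := h1360 M hM K U hKU
    have hUM : U ≤ M := hKU.compl.1
    have hUσ : sigmaCore M ⊓ U = ⊥ := by
      rw [eq_bot_iff, ← hKU.compl.2.2.1, inf_comm]
      exact inf_le_inf_left _ le_sup_right
    have hcU : IsComplIn (sigmaCore M) U (U ⊔ sigmaCore M) := by
      refine ⟨le_sup_right, le_sup_left, hUσ, ?_⟩
      intro m hm
      have hset : ((sigmaCore M ⊔ U : Subgroup G) : Set G) = (sigmaCore M : Set G) * (U : Set G) :=
        Subgroup.coe_mul_of_right_le_normalizer_left (sigmaCore M) U (hUM.trans hMσ)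
      have hm' : m ∈ ((sigmaCore M ⊔ U : Subgroup G) : Set G) := by
        rw [sup_comm]
        exact hm
      rw [hset] at hm'
      obtain ⟨a, ha, b, hb, rfl⟩ := Set.mem_mul.mp hm'
      exact ⟨a, ha, b, hb, rfl⟩
    have hUnil : Group.IsNilpotent ↥U := isNilpotent_of_comm hUc
    have hUPc : IsComplIn (fittingHallOf M) U ⁅M, M⁆ := by
      rw [hFeq, hder]
      exact hcU
    have hP := typeP_of hG h1354 h1356 h1364 h1365 h1366 h1368 h1370 M hM K U hKU hK1 U hUnil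
      hKU.normal hUPc
    have hcomplK : IsComplIn ⁅M, M⁆ K M := hP.W₁_compl
    have hDM : ⁅M, M⁆ ≤ M := hcomplK.1
    have hDcop : (Nat.card ↥⁅M, M⁆).Coprime ((⁅M, M⁆ : Subgroup G).relIndex M) := by
      rw [relIndex_left_of_isComplIn hcomplK]
      have h1 := coprime_of_isPiHallOf hKU.hall
      rw [relIndex_right_of_isComplIn hcomplK] at h1
      exact h1.symm
    have hFD : fittingHallOf ⁅M, M⁆ = fittingHallOf M :=
      fittingHallOf_eq_of_hall hDM (le_normalizer_commutator M) hDcop (hFσ.trans hσD)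
    refine ⟨K, U, sigmaCore M ⊓ Subgroup.centralizer (K : Set G), hP, hU1, hKp, hTI, hUc, hNU, ?_,
      hFD⟩
    have hDne : (⁅M, M⁆ : Subgroup G) ≠ ⊤ := fun h => hM.1 (top_le_iff.mp (h ▸ hDM))
    have hσ1 : sigmaCore M ≠ ⊥ := hFeq ▸ hF1
    have hcU' : IsComplIn (sigmaCore M) U ⁅M, M⁆ := by
      rw [hder]
      exact hcU
    apply isOfTypeF_of (H := sigmaCore M) (U := U) (U₁ := U) (U₀ := U₀)
      (isSolvable_of_ne_top hG hDne) (odd_card_subgroup hG _) (hFD.trans hFeq) hσ1 hU1 hcU'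
      le_rfl Subgroup.le_normalizer hUc (fun x _ _ => inf_le_left) hU₀U hexp
    intro u hu hu1 x hx hux
    by_contra hx1
    exact hu1 (hU₀ u hu ⟨hUM (hU₀U hu), x, hx, hx1, hux⟩)

/-- **Core of S1382**: Type III or IV iff `K ≠ 1`, `U = 1` and `M_F ≠ M_σ`. -/
theorem s1382_core {G : Type*} [Group G] [Finite G] (hG : Cfsg.IsMinSimpleOddOrder G)
    (h1350 : type_of% (@Cfsg.CfsgFrozen.S1350 G _ _ hG))
    (h1354 : type_of% (@Cfsg.CfsgFrozen.S1354 G _ _ hG))
    (h1355 : type_of% (@Cfsg.CfsgFrozen.S1355 G _ _ hG))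
    (h1356 : type_of% (@Cfsg.CfsgFrozen.S1356 G _ _ hG))
    (h1357 : type_of% (@Cfsg.CfsgFrozen.S1357 G _ _ hG))
    (h1363 : type_of% (@Cfsg.CfsgFrozen.S1363 G _ _ hG))
    (h1364 : type_of% (@Cfsg.CfsgFrozen.S1364 G _ _ hG))
    (h1365 : type_of% (@Cfsg.CfsgFrozen.S1365 G _ _ hG))
    (h1366 : type_of% (@Cfsg.CfsgFrozen.S1366 G _ _ hG))
    (h1368 : type_of% (@Cfsg.CfsgFrozen.S1368 G _ _ hG))
    (h1370 : type_of% (@Cfsg.CfsgFrozen.S1370 G _ _ hG))
    (M : Subgroup G) (hM : IsCoatom M) (K U : Subgroup G)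
    (hKU : Cfsg.IsSigmaDecomposition M K U) :
    (Cfsg.IsOfTypeIII M ∨ Cfsg.IsOfTypeIV M) ↔
      (K ≠ ⊥ ∧ U = ⊥ ∧ Cfsg.fittingHallOf M ≠ Cfsg.sigmaCore M) := by
  obtain ⟨hσH, -, -⟩ := h1350 M hM
  obtain ⟨hF1, hFσ, hσD, -, hnilq⟩ := h1355 M hM
  have hσM : sigmaCore M ≤ M := Cfsg.Agent.Lib.Helper67.BG.sigmaCore_le M
  have hMσ := Cfsg.Agent.Lib.Helper67.BG.sigmaCore_normalizer M
  have hDM : ⁅M, M⁆ ≤ M := Cfsg.Agent.Lib.Helper23.commutator_self_le M
  constructor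
  · intro h
    obtain ⟨W₁, UP, W₂, hP, hUP1, hNUP⟩ : ∃ W₁ UP W₂ : Subgroup G, IsTypePWith M W₁ UP W₂ ∧
        UP ≠ ⊥ ∧ Subgroup.normalizer (UP : Set G) ≤ M := by
      rcases h with ⟨W₁, UP, W₂, hP, hUP1, -, -, -, hN⟩ | ⟨W₁, UP, W₂, hP, hUP1, -, -, -, hN⟩
      · exact ⟨W₁, UP, W₂, hP, hUP1, hN⟩
      · exact ⟨W₁, UP, W₂, hP, hUP1, hN⟩
    have hK1 : K ≠ ⊥ :=
      ne_bot_of_kappa_nonempty hKU.hall (kappa_nonempty_of_typeP hσH hFσ hσD hP)
    obtain ⟨hder, -⟩ := h1365 M hM K U hKU hK1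
    have hU : U = ⊥ := by
      by_contra hU1
      have hFeq : fittingHallOf M = sigmaCore M := by
        by_contra hne
        exact hU1 (h1357 M hM K U hKU hne).1
      obtain ⟨-, hNU⟩ := h1363 M hM K U hKU hK1
      apply hNU
      -- `U` and `UP` are complements of `M_σ` in `M'`, hence conjugate in `M'`
      have hUM : U ≤ M := hKU.compl.1
      have hUσ : sigmaCore M ⊓ U = ⊥ := by
        rw [eq_bot_iff, ← hKU.compl.2.2.1, inf_comm]
        exact inf_le_inf_left _ le_sup_right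
      have hcU : IsComplIn (sigmaCore M) U ⁅M, M⁆ := by
        rw [hder]
        refine ⟨le_sup_right, le_sup_left, hUσ, ?_⟩
        intro m hm
        have hset : ((sigmaCore M ⊔ U : Subgroup G) : Set G) =
            (sigmaCore M : Set G) * (U : Set G) :=
          Subgroup.coe_mul_of_right_le_normalizer_left (sigmaCore M) U (hUM.trans hMσ)
        have hm' : m ∈ ((sigmaCore M ⊔ U : Subgroup G) : Set G) := by
          rw [sup_comm]
          exact hm
        rw [hset] at hm'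
        obtain ⟨a, ha, b, hb, rfl⟩ := Set.mem_mul.mp hm'
        exact ⟨a, ha, b, hb, rfl⟩
      have hcUP : IsComplIn (sigmaCore M) UP ⁅M, M⁆ := by
        rw [← hFeq]
        exact hP.U_compl
      have hcop : (Nat.card ↥(sigmaCore M)).Coprime ((sigmaCore M).relIndex ⁅M, M⁆) := by
        have h1 := coprime_of_isPiHallOf hσH
        have h2 : (sigmaCore M).relIndex ⁅M, M⁆ ∣ (sigmaCore M).relIndex M :=
          Dvd.intro _ (Subgroup.relIndex_mul_relIndex _ _ _ hσD hDM)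
        exact Nat.Coprime.coprime_dvd_right h2 h1
      have hDne : (⁅M, M⁆ : Subgroup G) ≠ ⊤ := fun h => hM.1 (top_le_iff.mp (h ▸ hDM))
      obtain ⟨m, hm, hUeq⟩ := exists_conj_of_isPiHallOf (isSolvable_of_ne_top hG hDne)
        (isPiHallOf_of_isComplIn_hall hcUP hcop) (isPiHallOf_of_isComplIn_hall hcU hcop)
      rw [hUeq, normalizer_map_conj]
      intro x hx
      rw [mem_map_conj_iff] at hx
      have h1 := hNUP hx
      have hmM : m ∈ M := hDM hm
      have : x = m * (m⁻¹ * x * m) * m⁻¹ := by group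
      rw [this]
      exact M.mul_mem (M.mul_mem hmM h1) (M.inv_mem hmM)
    refine ⟨hK1, hU, ?_⟩
    intro hFeq
    rw [hU, bot_sup_eq] at hder
    have hc := hP.U_compl
    apply hUP1
    rw [eq_bot_iff, ← hc.2.2.1]
    refine le_inf ?_ le_rfl
    rw [hFeq, ← hder]
    exact hc.2.1
  · rintro ⟨hK1, hU, hne⟩
    obtain ⟨-, hTI, hKp⟩ := h1357 M hM K U hKU hne
    obtain ⟨hder, -⟩ := h1365 M hM K U hKU hK1
    rw [hU, bot_sup_eq] at hder
    have hKF : (Nat.card ↥K).Coprime (Nat.card ↥(fittingHallOf M)) := by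
      apply Nat.coprime_of_dvd
      intro p hp hpK hpF
      have h1 : p ∈ kappa M := hKU.hall.2.1 p hp hpK
      have h2 : p ∈ sigma M := Cfsg.Agent.Lib.Helper67.BG.sigmaCore_isPi M p hp
        (hpF.trans (Subgroup.card_dvd_of_le hFσ))
      exact h1.2.2.1 h2
    obtain ⟨UP, hUPc, hKUP⟩ := exists_invariant_complement (isSolvable_of_ne_top hG hM.1) hFσ hσM
      hMσ hKU.hall.1 (fittingHallOf_coprime M) hKF
    have hUPD : UP ≤ ⁅M, M⁆ := by
      rw [hder]
      exact hUPc.2.1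
    have hUPnil : Group.IsNilpotent ↥UP :=
      isNilpotent_of_inf_fittingHallOf_eq_bot hnilq hUPD hUPc.2.2.1
    have hUP1 : UP ≠ ⊥ := by
      rintro rfl
      apply hne
      apply le_antisymm hFσ
      intro m hm
      obtain ⟨a, ha, b, hb, rfl⟩ := hUPc.2.2.2 m hm
      rw [Subgroup.mem_bot.mp hb, mul_one]
      exact ha
    have hNUP := normalizer_le_of_nilpotent_hall hσH hUP1 hUPnil hUPc
    have hUPc' : IsComplIn (fittingHallOf M) UP ⁅M, M⁆ := by
      rw [hder]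
      exact hUPc
    have hP := typeP_of hG h1354 h1356 h1364 h1365 h1366 h1368 h1370 M hM K U hKU hK1 UP hUPnil
      hKUP hUPc'
    by_cases hab : IsMulCommutative ↥UP
    · exact Or.inl ⟨K, UP, _, hP, hUP1, hKp, hTI, hab, hNUP⟩
    · exact Or.inr ⟨K, UP, _, hP, hUP1, hKp, hTI, hab, hNUP⟩

/-- **Core of S1383, weak form**: Type V iff `K ≠ 1`, `U = 1` and `M_F = M_σ`.  Instead of the
full statement S1440 only two of its clauses are assumed (`h1440w`): `X ≤ M_F` for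
`X = F(M) ∩ F(M)^g ≠ 1`, `g ∉ M`, and the trichotomy; the clause `M' = F(M)` is not used. -/
theorem s1383_core_weak {G : Type*} [Group G] [Finite G] (hG : Cfsg.IsMinSimpleOddOrder G)
    (h1350 : type_of% (@Cfsg.CfsgFrozen.S1350 G _ _ hG))
    (h1354 : type_of% (@Cfsg.CfsgFrozen.S1354 G _ _ hG))
    (h1355 : type_of% (@Cfsg.CfsgFrozen.S1355 G _ _ hG))
    (h1356 : type_of% (@Cfsg.CfsgFrozen.S1356 G _ _ hG))
    (h1364 : type_of% (@Cfsg.CfsgFrozen.S1364 G _ _ hG))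
    (h1365 : type_of% (@Cfsg.CfsgFrozen.S1365 G _ _ hG))
    (h1366 : type_of% (@Cfsg.CfsgFrozen.S1366 G _ _ hG))
    (h1368 : type_of% (@Cfsg.CfsgFrozen.S1368 G _ _ hG))
    (h1370 : type_of% (@Cfsg.CfsgFrozen.S1370 G _ _ hG))
    (h1440w : ∀ (M : Subgroup G), IsCoatom M → ∀ (K U : Subgroup G),
      Cfsg.IsSigmaDecomposition M K U → ∀ (g : G), g ∉ M →
      Cfsg.fittingOf M ⊓ (Cfsg.fittingOf M).map (MulAut.conj g).toMonoidHom ≠ ⊥ →
      Cfsg.fittingOf M ⊓ (Cfsg.fittingOf M).map (MulAut.conj g).toMonoidHom ≤ Cfsg.fittingHallOf M ∧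
      ((K = ⊥ ∧ IsMulCommutative (Cfsg.fittingHallOf M) ∧ Cfsg.RankLE 2 (Cfsg.fittingHallOf M) ∧ ¬ Cfsg.RankLE 1 (Cfsg.fittingHallOf M)) ∨
       (∃ p : ℕ, p.Prime ∧ Nat.card ↥(Cfsg.fittingOf M ⊓ (Cfsg.fittingOf M).map (MulAut.conj g).toMonoidHom) = p ∧ p ∈ Cfsg.sigma M ∧ p ∉ Cfsg.beta M ∧
          ¬ IsMulCommutative (Cfsg.pCore p ↥(Cfsg.fittingHallOf M)) ∧ IsCyclic (Cfsg.pPrimeCore p ↥(Cfsg.fittingHallOf M)) ∧
          ∀ q : ℕ, q.Prime → q ∣ Nat.card (Cfsg.fittingHallOf M) → Monoid.exponent (↥M ⧸ Cfsg.fittingHall ↥M) ∣ q - 1) ∨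
       (∃ p : ℕ, p.Prime ∧ Nat.card ↥(Cfsg.fittingOf M ⊓ (Cfsg.fittingOf M).map (MulAut.conj g).toMonoidHom) = p ∧ p ∈ Cfsg.sigma M ∧ p ∉ Cfsg.beta M ∧
          IsCyclic (Cfsg.pPrimeCore p ↥(Cfsg.fittingHallOf M)) ∧ Nat.card (Cfsg.pCore p ↥(Cfsg.fittingHallOf M)) = p ^ 3 ∧
          ¬ IsMulCommutative (Cfsg.pCore p ↥(Cfsg.fittingHallOf M)) ∧ K ≠ ⊥ ∧ U = ⊥ ∧ (Cfsg.fittingHallOf M).relIndex M ∣ p + 1)))
    (M : Subgroup G) (hM : IsCoatom M) (K U : Subgroup G)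
    (hKU : Cfsg.IsSigmaDecomposition M K U) :
    Cfsg.IsOfTypeV M ↔ (K ≠ ⊥ ∧ U = ⊥ ∧ Cfsg.fittingHallOf M = Cfsg.sigmaCore M) := by
  obtain ⟨hσH, -, -⟩ := h1350 M hM
  obtain ⟨hF1, hFσ, hσD, -, -⟩ := h1355 M hM
  constructor
  · rintro ⟨W₁, UP, W₂, hP, hUP, -⟩
    have hK1 : K ≠ ⊥ :=
      ne_bot_of_kappa_nonempty hKU.hall (kappa_nonempty_of_typeP hσH hFσ hσD hP)
    obtain ⟨hder, -⟩ := h1365 M hM K U hKU hK1
    have hc := hP.U_compl
    rw [hUP] at hc
    have hDF : ⁅M, M⁆ ≤ fittingHallOf M := by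
      intro m hm
      obtain ⟨a, ha, b, hb, rfl⟩ := hc.2.2.2 m hm
      rw [Subgroup.mem_bot.mp hb, mul_one]
      exact ha
    have hFeq : fittingHallOf M = sigmaCore M := le_antisymm hFσ (hσD.trans hDF)
    refine ⟨hK1, ?_, hFeq⟩
    rw [eq_bot_iff, ← hKU.compl.2.2.1]
    have hUσ : U ≤ sigmaCore M := by
      have h1 : U ≤ ⁅M, M⁆ := by
        rw [hder]
        exact le_sup_left
      exact h1.trans (hDF.trans hFσ)
    exact le_inf le_rfl (hUσ.trans le_sup_right)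
  · rintro ⟨hK1, hU, hFeq⟩
    obtain ⟨hder, -⟩ := h1365 M hM K U hKU hK1
    rw [hU, bot_sup_eq] at hder
    have hUPc : IsComplIn (fittingHallOf M) ⊥ ⁅M, M⁆ := by
      rw [hder, hFeq]
      exact ⟨le_rfl, bot_le, inf_bot_eq _,
        fun m hm => ⟨m, hm, 1, Subgroup.mem_bot.mpr rfl, (mul_one m).symm⟩⟩
    have hKbot : K ≤ Subgroup.normalizer (((⊥ : Subgroup G) : Subgroup G) : Set G) := by
      intro k _
      rw [Subgroup.mem_normalizer_iff]
      intro y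
      simp [Subgroup.mem_bot]
    have hP := typeP_of hG h1354 h1356 h1364 h1365 h1366 h1368 h1370 M hM K U hKU hK1 ⊥
      inferInstance hKbot hUPc
    refine ⟨K, ⊥, _, hP, rfl, ?_⟩
    by_cases hTI : IsTISubset (fittingHallOf M : Set G)
    · exact Or.inl hTI
    · right
      unfold IsTISubset at hTI
      push Not at hTI
      obtain ⟨g, hgN, x, hx, hgx, hx1⟩ := hTI
      have hgM : g ∉ M := fun h => hgN (le_normalizer_fittingHallOf M h)
      have hFF : fittingHallOf M ≤ fittingOf M := by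
        obtain ⟨-, hFeq', -⟩ := h1356 M hM
        rw [hFeq']
        exact le_sup_right
      have hX : fittingOf M ⊓ (fittingOf M).map (MulAut.conj g).toMonoidHom ≠ ⊥ := by
        intro h
        have h1 : g * x * g⁻¹ ∈ fittingOf M ⊓ (fittingOf M).map (MulAut.conj g).toMonoidHom :=
          ⟨hFF hgx, conj_mem_map_conj g (hFF hx)⟩
        rw [h, Subgroup.mem_bot] at h1
        apply hx1
        have h2 : x = g⁻¹ * (g * x * g⁻¹) * g := by group
        rw [h2, h1]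
        group
      obtain ⟨hXF, h3⟩ := h1440w M hM K U hKU g hgM hX
      have hKF : K ⊓ fittingHallOf M = ⊥ := by
        rw [hFeq]
        exact sigmaDecomposition_inf_sigmaCore M K U hKU
      rcases h3 with ⟨hK, -⟩ | ⟨p, hp, hXp, -, -, -, hcyc, hexp⟩ |
        ⟨p, hp, hXp, -, -, hcyc, hc3, -, -, -, hidx⟩
      · exact absurd hK hK1
      · left
        have hpF : p ∣ Nat.card ↥(fittingHallOf M) := by
          rw [← hXp]
          exact Subgroup.card_dvd_of_le hXF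
        exact ⟨p, hp, hpF,
          (card_dvd_exponent_quotient hKU.cyclic hKU.hall.1 hKF).trans (hexp p hp hpF), hcyc⟩
      · right
        have hpF : p ∣ Nat.card ↥(fittingHallOf M) := by
          rw [← hXp]
          exact Subgroup.card_dvd_of_le hXF
        have hcK : IsComplIn ⁅M, M⁆ K M := hP.W₁_compl
        rw [hder, ← hFeq] at hcK
        rw [relIndex_left_of_isComplIn hcK] at hidx
        exact ⟨p, hp, hpF, hc3, hidx, hcyc⟩

/-- **Core of S1383**: Type V iff `K ≠ 1`, `U = 1` and `M_F = M_σ`. -/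
theorem s1383_core {G : Type*} [Group G] [Finite G] (hG : Cfsg.IsMinSimpleOddOrder G)
    (h1350 : type_of% (@Cfsg.CfsgFrozen.S1350 G _ _ hG))
    (h1354 : type_of% (@Cfsg.CfsgFrozen.S1354 G _ _ hG))
    (h1355 : type_of% (@Cfsg.CfsgFrozen.S1355 G _ _ hG))
    (h1356 : type_of% (@Cfsg.CfsgFrozen.S1356 G _ _ hG))
    (h1364 : type_of% (@Cfsg.CfsgFrozen.S1364 G _ _ hG))
    (h1365 : type_of% (@Cfsg.CfsgFrozen.S1365 G _ _ hG))
    (h1366 : type_of% (@Cfsg.CfsgFrozen.S1366 G _ _ hG))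
    (h1368 : type_of% (@Cfsg.CfsgFrozen.S1368 G _ _ hG))
    (h1370 : type_of% (@Cfsg.CfsgFrozen.S1370 G _ _ hG))
    (h1440 : type_of% (@Cfsg.CfsgFrozen.S1440 G _ _ hG))
    (M : Subgroup G) (hM : IsCoatom M) (K U : Subgroup G)
    (hKU : Cfsg.IsSigmaDecomposition M K U) :
    Cfsg.IsOfTypeV M ↔ (K ≠ ⊥ ∧ U = ⊥ ∧ Cfsg.fittingHallOf M = Cfsg.sigmaCore M) :=
  s1383_core_weak hG h1350 h1354 h1355 h1356 h1364 h1365 h1366 h1368 h1370
    (fun M hM K U hKU g hg hX =>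
      ⟨(h1440 M hM K U hKU g hg hX).1.1, (h1440 M hM K U hKU g hg hX).2.2⟩) M hM K U hKU

end Cfsg.Agent.Lib.Helper71.BG
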