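import Mathlib
import Cfsg.Prelude.Def_OddOrderLocal
import Cfsg.Statements.S1350
import Cfsg.Statements.S1353
import Cfsg.Statements.S1429
import Cfsg.Statements.S1430
import Cfsg.Statements.S1437
import Cfsg.Agent.Lib.Helper67.BG.S1357Core
import Cfsg.Agent.Lib.Helper81.BG.S1372Core
import Cfsg.Agent.Lib.Helper71.BG.TypeCores

/-!
# Weak-S1440 variants of the cores of S1357, S1372 and S1383

The frozen statement S1440 asserts `⁅M, M⁆ = F(M)`; Bender–Glauberman (Theorem 15.8) only prove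
`M' ≤ F(M)`.  `S1440Weak G` is the statement S1440 with `≤` in place of `=`, and the three cores
below are the cores of S1357 (helper67), S1372 (helper81) and S1383 (helper71) with the hypothesis
S1440 replaced by `S1440Weak G`.  The proofs of the first two are those of
`Cfsg.Agent.Lib.Helper67.BG.s1357_core` and `Cfsg.Agent.Lib.Helper81.BG.s1372_core`, unchanged
except for the line using S1440.
-/

set_option autoImplicit false

namespace Cfsg.Agent.Lib.Helper71.BGW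

/-- The statement S1440 with `⁅M, M⁆ ≤ F(M)` in place of `⁅M, M⁆ = F(M)`. -/
def S1440Weak (G : Type*) [Group G] : Prop :=
  ∀ (M : Subgroup G) (_hM : IsCoatom M) (K U : Subgroup G) (_hKU : Cfsg.IsSigmaDecomposition M K U) (g : G) (_hg : g ∉ M) (_hX : Cfsg.fittingOf M ⊓ (Cfsg.fittingOf M).map (MulAut.conj g).toMonoidHom ≠ ⊥),
    (Cfsg.fittingOf M ⊓ (Cfsg.fittingOf M).map (MulAut.conj g).toMonoidHom ≤ Cfsg.fittingHallOf M ∧ IsCyclic ↥(Cfsg.fittingOf M ⊓ (Cfsg.fittingOf M).map (MulAut.conj g).toMonoidHom)) ∧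
      (⁅M, M⁆ ≤ Cfsg.fittingOf M ∧ Cfsg.fittingOf M = Cfsg.sigmaCore M ⊔ Cfsg.piCoreOf {q | q.Prime ∧ q ∉ Cfsg.sigma M} (Cfsg.fittingOf M)) ∧
      ((K = ⊥ ∧ IsMulCommutative (Cfsg.fittingHallOf M) ∧ Cfsg.RankLE 2 (Cfsg.fittingHallOf M) ∧ ¬ Cfsg.RankLE 1 (Cfsg.fittingHallOf M)) ∨
       (∃ p : ℕ, p.Prime ∧ Nat.card ↥(Cfsg.fittingOf M ⊓ (Cfsg.fittingOf M).map (MulAut.conj g).toMonoidHom) = p ∧ p ∈ Cfsg.sigma M ∧ p ∉ Cfsg.beta M ∧
          ¬ IsMulCommutative (Cfsg.pCore p ↥(Cfsg.fittingHallOf M)) ∧ IsCyclic (Cfsg.pPrimeCore p ↥(Cfsg.fittingHallOf M)) ∧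
          ∀ q : ℕ, q.Prime → q ∣ Nat.card (Cfsg.fittingHallOf M) → Monoid.exponent (↥M ⧸ Cfsg.fittingHall ↥M) ∣ q - 1) ∨
       (∃ p : ℕ, p.Prime ∧ Nat.card ↥(Cfsg.fittingOf M ⊓ (Cfsg.fittingOf M).map (MulAut.conj g).toMonoidHom) = p ∧ p ∈ Cfsg.sigma M ∧ p ∉ Cfsg.beta M ∧
          IsCyclic (Cfsg.pPrimeCore p ↥(Cfsg.fittingHallOf M)) ∧ Nat.card (Cfsg.pCore p ↥(Cfsg.fittingHallOf M)) = p ^ 3 ∧
          ¬ IsMulCommutative (Cfsg.pCore p ↥(Cfsg.fittingHallOf M)) ∧ K ≠ ⊥ ∧ U = ⊥ ∧ (Cfsg.fittingHallOf M).relIndex M ∣ p + 1))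

/-- The frozen statement S1440 implies its weak form. -/
theorem s1440Weak_of {G : Type*} [Group G] [Finite G] (hG : Cfsg.IsMinSimpleOddOrder G)
    (h1440 : type_of% (@Cfsg.CfsgFrozen.S1440 G _ _ hG)) : S1440Weak G := by
  intro M hM K U hKU g hg hX
  obtain ⟨h1, ⟨h2, h3⟩, h4⟩ := h1440 M hM K U hKU g hg hX
  exact ⟨h1, ⟨h2.le, h3⟩, h4⟩

section S1357

open Cfsg Cfsg.Agent.Lib.Helper67.BG

/-- Core of S1357 from S1350, S1437 and the weak form of S1440 (proof of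
`Cfsg.Agent.Lib.Helper67.BG.s1357_core`). -/
theorem s1357_core_weak {G : Type*} [Group G] [Finite G] (hG : Cfsg.IsMinSimpleOddOrder G)
    (h1350 : type_of% (@Cfsg.CfsgFrozen.S1350 G _ _ hG))
    (h1437 : type_of% (@Cfsg.CfsgFrozen.S1437 G _ _ hG))
    (h1440w : S1440Weak G)
    (M : Subgroup G) (hM : IsCoatom M) (K U : Subgroup G) (hKU : Cfsg.IsSigmaDecomposition M K U)
    (hne : Cfsg.fittingHallOf M ≠ Cfsg.sigmaCore M) :
    U = ⊥ ∧ Cfsg.IsTISubset (Cfsg.fittingOf M : Set G) ∧ (Nat.card K).Prime := by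
  obtain ⟨hU, -, hKp, hqp, -, hqβ, Q, hQH, hQn, hQq, hQidx, -⟩ := h1437 M hM K U hKU hne
  obtain ⟨hHall, -, -⟩ := h1350 M hM
  refine ⟨hU, ?_, hKp⟩
  intro g hg x hx hgx
  by_contra hx1
  have hgM : g ∉ M := fun h => hg (fittingOf_normalizer M h)
  have hg'M : g⁻¹ ∉ M := fun h => hgM (by simpa using M.inv_mem h)
  have hX : fittingOf M ⊓ (fittingOf M).map (MulAut.conj g⁻¹).toMonoidHom ≠ ⊥ := by
    intro h
    have hmem : x ∈ fittingOf M ⊓ (fittingOf M).map (MulAut.conj g⁻¹).toMonoidHom := by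
      refine ⟨hx, ⟨g * x * g⁻¹, hgx, ?_⟩⟩
      change g⁻¹ * (g * x * g⁻¹) * g⁻¹⁻¹ = x
      group
    rw [h, Subgroup.mem_bot] at hmem
    exact hx1 hmem
  obtain ⟨-, -, hcases⟩ := h1440w M hM K U hKU g⁻¹ hg'M hX
  -- the prime `q = |K*|`
  generalize hqdef : Nat.card ↥(sigmaCore M ⊓ Subgroup.centralizer (K : Set G)) = q at *
  have hqF : Fact q.Prime := ⟨hqp⟩
  have hQM : Q ≤ M := hQH.trans (fittingHallOf_le M)
  -- `q ∈ σ(M)`
  have hqσ : q ∈ sigma M := by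
    apply sigmaCore_isPi M q hqp
    rw [← hqdef]
    exact Subgroup.card_dvd_of_le inf_le_left
  -- `q` does not divide `|M : Q|`
  have hQidxM : ¬ q ∣ Q.relIndex M := by
    intro hdvd
    have h1 : (Q ⊓ sigmaCore M).relIndex (sigmaCore M) * (sigmaCore M).relIndex M =
        (Q ⊓ sigmaCore M).relIndex M :=
      Subgroup.relIndex_mul_relIndex _ _ _ inf_le_right (sigmaCore_le M)
    have h2 : (Q ⊓ sigmaCore M).relIndex Q * Q.relIndex M = (Q ⊓ sigmaCore M).relIndex M :=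
      Subgroup.relIndex_mul_relIndex _ _ _ inf_le_left hQM
    rw [Subgroup.inf_relIndex_right] at h1
    have h3 : q ∣ Q.relIndex (sigmaCore M) * (sigmaCore M).relIndex M := by
      rw [h1, ← h2]
      exact dvd_mul_of_dvd_right hdvd _
    rcases (Nat.Prime.dvd_mul hqp).mp h3 with h | h
    · exact hQidx h
    · exact hHall.2.2 q hqp hqσ h
  -- `Q` is not cyclic
  have hQnc : ¬ IsCyclic Q := by
    intro hcyc
    have hα : q ∈ alpha M := hqβ.1
    apply hα.2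
    rw [Cfsg.Agent.Lib.Helper24.pRankLE_subgroup_iff]
    intro A hAM hAc hAq
    have hA : IsPGroup q A := by
      intro ⟨a, ha⟩
      refine ⟨1, ?_⟩
      apply Subtype.ext
      rw [pow_one]
      exact hAq a ha
    have hAQ : A ≤ Q := le_of_normal_sylow hQM hQn hQq hQidxM hAM hA
    have hAcyc : IsCyclic A := by
      have e : A ≃* (A.subgroupOf Q) := (Subgroup.subgroupOfEquivOfLe hAQ).symm
      have : IsCyclic (A.subgroupOf Q) := inferInstance
      exact isCyclic_of_surjective e.symm.toMonoidHom e.symm.surjective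
    have h1 : Nat.card A ≤ q := by
      apply card_le_of_isCyclic_of_pow hqp.pos
      rintro ⟨a, ha⟩
      apply Subtype.ext
      exact hAq a ha
    calc Nat.card A ≤ q := h1
      _ = q ^ 1 := (pow_one q).symm
      _ ≤ q ^ 2 := Nat.pow_le_pow_right hqp.pos (by norm_num)
  -- the two cyclic cases are impossible
  have key : ∀ p : ℕ, p.Prime → p ∉ beta M → IsCyclic (pPrimeCore p ↥(fittingHallOf M)) → False := by
    intro p hp hpβ hcyc
    have hqp' : q ≠ p := fun h => hpβ (h ▸ hqβ)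
    have hQ'n : (Q.subgroupOf (fittingHallOf M)).Normal :=
      (Subgroup.normal_subgroupOf_iff_le_normalizer hQH).mpr ((fittingHallOf_le M).trans hQn)
    have hcard : Nat.card (Q.subgroupOf (fittingHallOf M)) = Nat.card Q :=
      Nat.card_congr (Subgroup.subgroupOfEquivOfLe hQH).toEquiv
    have hcop : (Nat.card (Q.subgroupOf (fittingHallOf M))).Coprime p := by
      rw [hcard]
      obtain ⟨n, hn⟩ := IsPGroup.iff_card.mp hQq
      rw [hn]
      exact Nat.Coprime.pow_left n ((Nat.coprime_primes hqp hp).mpr hqp')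
    have hle : Q.subgroupOf (fittingHallOf M) ≤ pPrimeCore p ↥(fittingHallOf M) :=
      le_sSup ⟨hQ'n, hcop⟩
    apply hQnc
    have e1 : Q ≃* (Q.subgroupOf (fittingHallOf M)) := (Subgroup.subgroupOfEquivOfLe hQH).symm
    have e2 : (Q.subgroupOf (fittingHallOf M)) ≃*
        ((Q.subgroupOf (fittingHallOf M)).subgroupOf (pPrimeCore p ↥(fittingHallOf M))) :=
      (Subgroup.subgroupOfEquivOfLe hle).symm
    have : IsCyclic ((Q.subgroupOf (fittingHallOf M)).subgroupOf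
        (pPrimeCore p ↥(fittingHallOf M))) := inferInstance
    exact isCyclic_of_surjective (e1.trans e2).symm.toMonoidHom (e1.trans e2).symm.surjective
  rcases hcases with ⟨hK, -⟩ | ⟨p, hp, -, -, hpβ, -, hcyc, -⟩ | ⟨p, hp, -, -, hpβ, hcyc, -⟩
  · rw [hK, Subgroup.card_bot] at hKp
    exact Nat.not_prime_one hKp
  · exact key p hp hpβ hcyc
  · exact key p hp hpβ hcyc

end S1357

section S1372

open Cfsg Cfsg.Agent.Lib.Helper46 Cfsg.Agent.Lib.Helper35.BG Cfsg.Agent.Lib.Helper67.BG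
  Cfsg.Agent.Lib.Helper81.BG

/-- Core of S1372 from S1350, S1353, S1429, S1430 and the weak form of S1440 (proof of
`Cfsg.Agent.Lib.Helper81.BG.s1372_core`). -/
theorem s1372_core_weak {G : Type*} [Group G] [Finite G] (hG : Cfsg.IsMinSimpleOddOrder G)
    (h1350 : type_of% (@Cfsg.CfsgFrozen.S1350 G _ _ hG))
    (h1353 : type_of% (@Cfsg.CfsgFrozen.S1353 G _ _ hG))
    (h1429 : type_of% (@Cfsg.CfsgFrozen.S1429 G _ _ hG))
    (h1430 : type_of% (@Cfsg.CfsgFrozen.S1430 G _ _ hG))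
    (h1440w : S1440Weak G)
    (M : Subgroup G) (hM : IsCoatom M) (K U : Subgroup G) (hKU : Cfsg.IsSigmaDecomposition M K U)
    (hK1 : K ≠ ⊥) (hU1 : U ≠ ⊥) :
    (Nat.card K).Prime ∧ Cfsg.IsTISubset (Cfsg.fittingOf M : Set G) ∧
      Cfsg.sigmaCore M ≤ Cfsg.fittingOf M := by
  obtain ⟨hHall, -, -⟩ := h1350 M hM
  have hUH := isPiHallOf_of_sigmaDecomposition hHall hKU
  have hUM : U ≤ M := hKU.compl.1
  have hKM : K ≤ M := hKU.hall.1
  have hσM : sigmaCore M ≤ M := sigmaCore_le M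
  -- a prime `p` dividing `|U|`
  have hUcard : Nat.card U ≠ 1 := by
    intro h
    exact hU1 (Subgroup.card_eq_one.mp h)
  obtain ⟨p, hp, hpU⟩ := Nat.exists_prime_and_dvd hUcard
  have hpF : Fact p.Prime := ⟨hp⟩
  obtain ⟨-, hpκ, hpσ⟩ := hUH.2.1 p hp hpU
  have hpM : p ∣ Nat.card M := dvd_trans hpU (Subgroup.card_dvd_of_le hUM)
  have hP1 : ¬ (∀ q : ℕ, q.Prime → q ∣ Nat.card M → q ∉ Cfsg.sigma M → q ∈ Cfsg.kappa M) :=
    fun h => hpκ (h p hp hpM hpσ)
  -- a Sylow `p`-subgroup of `U` is a Sylow `p`-subgroup of `M`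
  obtain ⟨P₀⟩ : Nonempty (Sylow p U) := inferInstance
  have hP₀ : IsSylowIn p ((P₀ : Subgroup U).map U.subtype) U := isSylowIn_of_sylow P₀
  have hPU : (P₀ : Subgroup U).map U.subtype ≤ U := hP₀.1
  have hPp : IsPGroup p ((P₀ : Subgroup U).map U.subtype) :=
    IsPGroup.of_card (n := (Nat.card U).factorization p) hP₀.2
  have hPidxU : ¬ p ∣ ((P₀ : Subgroup U).map U.subtype).relIndex U := by
    have h1 : ((P₀ : Subgroup U).map U.subtype).relIndex U = (P₀ : Subgroup U).index := by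
      unfold Subgroup.relIndex
      congr 1
      ext x
      simp [Subgroup.mem_subgroupOf]
    rw [h1]
    exact P₀.not_dvd_index
  have hPidxM : ¬ p ∣ ((P₀ : Subgroup U).map U.subtype).relIndex M := by
    rw [← Subgroup.relIndex_mul_relIndex _ U M hPU hUM]
    intro h
    rcases (Nat.Prime.dvd_mul hp).mp h with h | h
    · exact hPidxU h
    · exact hUH.2.2 p hp ⟨hp, hpκ, hpσ⟩ h
  have hPM : IsSylowIn p ((P₀ : Subgroup U).map U.subtype) M :=
    sylIn_of_not_dvd_relIndex (hPU.trans hUM) hPp hPidxM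
  obtain ⟨S, hS⟩ := hPM.exists_sylow
  have hpσκ : p ∉ Cfsg.sigma M ∪ Cfsg.kappa M := by
    rintro (h | h)
    · exact hpσ h
    · exact hpκ h
  obtain ⟨-, hC, hnil⟩ := h1429 M hM hP1 p hpM hpσκ S
  -- `C_{M_σ}(U) = 1`
  have hCU : sigmaCore M ⊓ Subgroup.centralizer (U : Set G) = ⊥ := by
    rw [eq_bot_iff, ← hC]
    refine inf_le_inf le_rfl (Subgroup.centralizer_le ?_)
    have : Subgroup.closure {x : G | x ∈ (S : Subgroup M).map M.subtype ∧ x ^ p = 1} ≤ U := by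
      rw [Subgroup.closure_le]
      rintro x ⟨hx, -⟩
      rw [hS] at hx
      exact hPU hx
    exact this
  -- `M_σ ≤ F(M)`
  have hσF : sigmaCore M ≤ fittingOf M :=
    le_fittingOf_of_normal_nilpotent hσM (sigmaCore_normalizer M) hnil
  -- `M_σ ≠ 1`
  have hσ1 : sigmaCore M ≠ ⊥ := by
    have hKcard : Nat.card K ≠ 1 := fun h => hK1 (Subgroup.card_eq_one.mp h)
    obtain ⟨q, hq, hqK⟩ := Nat.exists_prime_and_dvd hKcard
    have hqκ : q ∈ kappa M := hKU.hall.2.1 q hq hqK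
    have : Fact q.Prime := ⟨hq⟩
    obtain ⟨Q⟩ : Nonempty (Sylow q M) := inferInstance
    obtain ⟨-, x, -, -, y, hy, hy1, -⟩ := hqκ.2.2.2 Q
    intro h
    rw [h, Subgroup.mem_bot] at hy
    exact hy1 hy
  have hUK : U ⊓ K = ⊥ := by
    rw [eq_bot_iff, ← hKU.compl.2.2.1]
    exact inf_le_inf le_rfl le_sup_left
  have hUKM : U ⊔ K ≤ M := sup_le hUM hKM
  have hMtop : M ≠ ⊤ := hM.1
  have hUKtop : U ⊔ K ≠ ⊤ := fun h => hMtop (top_le_iff.mp (h ▸ hUKM))
  -- coprimality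
  have hcop : (Nat.card ↥(U ⊔ K)).Coprime (Nat.card (sigmaCore M)) := by
    apply Nat.coprime_of_dvd
    intro q hq hq1 hq2
    have hqσ : q ∈ sigma M := sigmaCore_isPi M q hq hq2
    have h1 : Nat.card ↥(K ⊔ U) ∣ Nat.card K * Nat.card U :=
      Cfsg.Agent.Lib.Helper1.Mix.card_sup_dvd K U hKU.normal
    rw [sup_comm] at hq1
    rcases (Nat.Prime.dvd_mul hq).mp (dvd_trans hq1 h1) with h | h
    · exact (hKU.hall.2.1 q hq h).2.2.1 hqσ
    · exact (hUH.2.1 q hq h).2.2 hqσ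
  have hprime := Cfsg.Agent.S1446.result U K (sigmaCore M) hU1 hK1 hUK hKU.normal
    (h1353 M hM K U hKU) (isSolvable_of_ne_top hG hUKtop) (odd_card_subgroup hG _) hσ1 hnil
    (hUM.trans (sigmaCore_normalizer M)) (hKM.trans (sigmaCore_normalizer M)) hcop hCU
    (h1430 M hM K hKU.hall hK1).1
  refine ⟨hprime.1, ?_, hσF⟩
  -- the TI property
  intro g hg x hx hgx
  by_contra hx1
  have hgM : g ∉ M := fun h => hg (fittingOf_normalizer M h)
  have hg'M : g⁻¹ ∉ M := fun h => hgM (by simpa using M.inv_mem h)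
  have hX : fittingOf M ⊓ (fittingOf M).map (MulAut.conj g⁻¹).toMonoidHom ≠ ⊥ := by
    intro h
    have hmem : x ∈ fittingOf M ⊓ (fittingOf M).map (MulAut.conj g⁻¹).toMonoidHom := by
      refine ⟨hx, ⟨g * x * g⁻¹, hgx, ?_⟩⟩
      change g⁻¹ * (g * x * g⁻¹) * g⁻¹⁻¹ = x
      group
    rw [h, Subgroup.mem_bot] at hmem
    exact hx1 hmem
  obtain ⟨-, ⟨hMF, hFY⟩, -⟩ := h1440w M hM K U hKU g⁻¹ hg'M hX
  -- `U ≤ M' = F(M)`
  obtain ⟨k, hk, hk1⟩ := (Subgroup.ne_bot_iff_exists_ne_one (H := K)).mp hK1 |> fun ⟨⟨k, hk⟩, h⟩ =>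
    (⟨k, hk, fun h' => h (Subtype.ext h')⟩ : ∃ k ∈ K, k ≠ 1)
  have hUF : U ≤ fittingOf M :=
    (le_commutator_of_fpf hUM hKM hKU.normal hk (h1353 M hM K U hKU k hk hk1)).trans hMF
  -- `Y = O_{σ(M)'}(F(M))` centralizes `M_σ`
  set Y : Subgroup G := piCoreOf {q | q.Prime ∧ q ∉ Cfsg.sigma M} (fittingOf M) with hYdef
  have hFM : fittingOf M ≤ M := fittingOf_le M
  have hYF : Y ≤ fittingOf M := Subgroup.map_subtype_le _
  have hFY' : fittingOf M ≤ Subgroup.normalizer (Y : Set G) :=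
    le_normalizer_map_subtype (fittingOf M) _
  have hYcop : (Nat.card (sigmaCore M)).Coprime (Nat.card Y) := by
    apply Nat.coprime_of_dvd
    intro q hq hq1 hq2
    have hqσ : q ∈ sigma M := sigmaCore_isPi M q hq hq1
    have h1 : Nat.card Y = Nat.card (piCore {q | q.Prime ∧ q ∉ Cfsg.sigma M} ↥(fittingOf M)) := by
      rw [hYdef]
      unfold piCoreOf
      rw [Subgroup.card_map_of_injective (Subgroup.subtype_injective _)]
    rw [h1] at hq2
    exact (Cfsg.Agent.S3743.piCore_isPi _ q hq hq2).2 hqσ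
  have hσY : sigmaCore M ⊓ Y = ⊥ := (Subgroup.disjoint_of_coprime_natCard hYcop).eq_bot
  have hcomm : ∀ s ∈ sigmaCore M, ∀ y ∈ Y, s * y = y * s := by
    intro s hs y hy
    have h1 : s * y * s⁻¹ * y⁻¹ ∈ sigmaCore M := by
      have h2 : y * s⁻¹ * y⁻¹ ∈ sigmaCore M :=
        (Subgroup.mem_normalizer_iff.mp (sigmaCore_normalizer M (hFM (hYF hy))) s⁻¹).mp
          ((sigmaCore M).inv_mem hs)
      have h3 := (sigmaCore M).mul_mem hs h2
      simpa [mul_assoc] using h3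
    have h2 : s * y * s⁻¹ * y⁻¹ ∈ Y := by
      have h3 : s * y * s⁻¹ ∈ Y := (Subgroup.mem_normalizer_iff.mp (hFY' (hσF hs)) y).mp hy
      exact Y.mul_mem h3 (Y.inv_mem hy)
    have h3 : s * y * s⁻¹ * y⁻¹ ∈ sigmaCore M ⊓ Y := ⟨h1, h2⟩
    rw [hσY, Subgroup.mem_bot] at h3
    have h4 : s * y = (s * y * s⁻¹ * y⁻¹) * (y * s) := by group
    rw [h4, h3, one_mul]
  -- a non-identity central element of `M_σ`
  have : Group.IsNilpotent ↥(sigmaCore M) := hnil
  have : Nontrivial ↥(sigmaCore M) := (Subgroup.nontrivial_iff_ne_bot _).mpr hσ1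
  obtain ⟨⟨z, hzσ⟩, hzc, hz1⟩ : ∃ z : ↥(sigmaCore M), z ∈ Subgroup.center ↥(sigmaCore M) ∧ z ≠ 1 := by
    have hne := Group.IsNilpotent.center_ne_bot ↥(sigmaCore M)
    obtain ⟨⟨z, hz⟩, hz1⟩ := (Subgroup.ne_bot_iff_exists_ne_one (H := Subgroup.center ↥(sigmaCore M))).mp hne
    exact ⟨z, hz, fun h => hz1 (Subtype.ext h)⟩
  have hzcomm : ∀ s ∈ sigmaCore M, s * z = z * s := by
    intro s hs
    have h1 := (Subgroup.mem_center_iff.mp hzc) ⟨s, hs⟩
    exact congrArg Subtype.val h1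
  -- `F(M) = M_σ Y` centralizes `z`
  have hFz : fittingOf M ≤ Subgroup.centralizer ({z} : Set G) := by
    rw [hFY]
    apply sup_le
    · intro s hs
      rw [Subgroup.mem_centralizer_singleton_iff]
      exact hzcomm s hs
    · intro y hy
      rw [Subgroup.mem_centralizer_singleton_iff]
      exact (hcomm z hzσ y hy).symm
  have hzU : z ∈ sigmaCore M ⊓ Subgroup.centralizer (U : Set G) := by
    refine Subgroup.mem_inf.mpr ⟨hzσ, ?_⟩
    rw [Subgroup.mem_centralizer_iff]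
    intro u hu
    exact Subgroup.mem_centralizer_singleton_iff.mp (hFz (hUF hu))
  rw [hCU, Subgroup.mem_bot] at hzU
  exact hz1 (Subtype.ext hzU)

end S1372

/-- Core of S1383 from the weak form of S1440. -/
theorem s1383_core_w {G : Type*} [Group G] [Finite G] (hG : Cfsg.IsMinSimpleOddOrder G)
    (h1350 : type_of% (@Cfsg.CfsgFrozen.S1350 G _ _ hG))
    (h1354 : type_of% (@Cfsg.CfsgFrozen.S1354 G _ _ hG))
    (h1355 : type_of% (@Cfsg.CfsgFrozen.S1355 G _ _ hG))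
    (h1356 : type_of% (@Cfsg.CfsgFrozen.S1356 G _ _ hG))
    (h1364 : type_of% (@Cfsg.CfsgFrozen.S1364 G _ _ hG))
    (h1365 : type_of% (@Cfsg.CfsgFrozen.S1365 G _ _ hG))
    (h1366 : type_of% (@Cfsg.CfsgFrozen.S1366 G _ _ hG))
    (h1368 : type_of% (@Cfsg.CfsgFrozen.S1368 G _ _ hG))
    (h1370 : type_of% (@Cfsg.CfsgFrozen.S1370 G _ _ hG))
    (h1440w : S1440Weak G)
    (M : Subgroup G) (hM : IsCoatom M) (K U : Subgroup G)
    (hKU : Cfsg.IsSigmaDecomposition M K U) :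
    Cfsg.IsOfTypeV M ↔ (K ≠ ⊥ ∧ U = ⊥ ∧ Cfsg.fittingHallOf M = Cfsg.sigmaCore M) :=
  Cfsg.Agent.Lib.Helper71.BG.s1383_core_weak hG h1350 h1354 h1355 h1356 h1364 h1365 h1366 h1368
    h1370 (fun M hM K U hKU g hg hX =>
      ⟨(h1440w M hM K U hKU g hg hX).1.1, (h1440w M hM K U hKU g hg hX).2.2⟩) M hM K U hKU

end Cfsg.Agent.Lib.Helper71.BGW
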